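import Mathlib

/-!
# Norm `e + 1`, inner products `e`: an exceptional family
-/

set_option autoImplicit false

namespace Cfsg.Agent.BlockThms.AbelianTI

variable {ι : Type*}

open scoped Classical in
/-- A vector of norm two orthogonal to a positive vector is a difference of unit vectors. -/
theorem exists_diff {S : Finset ι} {D : ι → ℤ} {deg : ι → ℕ} (hdeg : ∀ χ ∈ S, 0 < deg χ)
    (h2 : ∑ χ ∈ S, D χ ^ 2 = 2) (hvan : ∑ χ ∈ S, D χ * (deg χ : ℤ) = 0) :
    ∃ a b, a ∈ S ∧ b ∈ S ∧ a ≠ b ∧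
      ∀ χ ∈ S, D χ = (if χ = a then 1 else 0) - (if χ = b then 1 else 0) := by
  set U := S.filter fun χ => D χ ≠ 0 with hU
  have hsum : ∑ χ ∈ U, D χ ^ 2 = 2 := by
    rw [hU, Finset.sum_filter_of_ne (p := fun χ => D χ ≠ 0) (fun χ _ h h0 => h (by rw [h0]; ring))]
    exact h2
  have hone : ∀ χ ∈ U, D χ = 1 ∨ D χ = -1 := by
    intro χ hχ
    have h0 := (Finset.mem_filter.1 hχ).2
    have h3 := (Finset.single_le_sum (f := fun χ => D χ ^ 2) (fun ψ _ => sq_nonneg _) hχ).trans
      hsum.le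
    have h4 : D χ < 2 := by nlinarith
    have h5 : -2 < D χ := by nlinarith
    omega
  have hcard : U.card = 2 := by
    have h3 : ∀ χ ∈ U, D χ ^ 2 = 1 := fun χ hχ => by
      rcases hone χ hχ with h | h <;> rw [h] <;> norm_num
    rw [Finset.sum_congr rfl h3, Finset.sum_const, nsmul_eq_mul, mul_one] at hsum
    exact_mod_cast hsum
  obtain ⟨a, b, hab, hUab⟩ := Finset.card_eq_two.1 hcard
  have haU : a ∈ U := hUab ▸ Finset.mem_insert_self a _
  have hbU : b ∈ U := hUab ▸ Finset.mem_insert_of_mem (Finset.mem_singleton_self b)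
  have key : D a * (deg a : ℤ) + D b * (deg b : ℤ) = 0 := by
    rw [← hvan, ← Finset.sum_filter_of_ne (p := fun χ => D χ ≠ 0) (fun χ _ h e => h (by
      rw [e]; simp)), ← hU, hUab, Finset.sum_pair hab]
  have ha0 := hdeg a (Finset.mem_filter.1 haU).1
  have hb0 := hdeg b (Finset.mem_filter.1 hbU).1
  have hoff : ∀ χ ∈ S, χ ≠ a → χ ≠ b → D χ = 0 := fun χ hχ h1 h2 => by
    by_contra h
    have : χ ∈ U := Finset.mem_filter.2 ⟨hχ, h⟩
    rw [hUab, Finset.mem_insert, Finset.mem_singleton] at this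
    tauto
  rcases hone a haU with h | h
  · refine ⟨a, b, (Finset.mem_filter.1 haU).1, (Finset.mem_filter.1 hbU).1, hab, fun χ hχ => ?_⟩
    have hb : D b = -1 := by
      rcases hone b hbU with h' | h'
      · rw [h, h'] at key; omega
      · exact h'
    by_cases h1 : χ = a
    · subst h1; rw [if_pos rfl, if_neg hab, h]; ring
    by_cases h3 : χ = b
    · subst h3; rw [if_neg h1, if_pos rfl, hb]; ring
    rw [if_neg h1, if_neg h3, hoff χ hχ h1 h3]; ring
  · refine ⟨b, a, (Finset.mem_filter.1 hbU).1, (Finset.mem_filter.1 haU).1, hab.symm,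
      fun χ hχ => ?_⟩
    have hb : D b = 1 := by
      rcases hone b hbU with h' | h'
      · exact h'
      · rw [h, h'] at key; omega
    by_cases h1 : χ = a
    · subst h1; rw [if_neg hab, if_pos rfl, h]; ring
    by_cases h3 : χ = b
    · subst h3; rw [if_pos rfl, if_neg h1, hb]; ring
    rw [if_neg h1, if_neg h3, hoff χ hχ h1 h3]; ring

open scoped Classical in
/-- The exceptional family. -/
theorem exists_exceptional {κ : Type*} [Fintype κ] (hκ : 1 < Fintype.card κ) {e : ℤ} (S : Finset ι)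
    (m : κ → ι → ℤ) (deg : ι → ℕ) (hdeg : ∀ χ ∈ S, 0 < deg χ)
    (hinner : ∀ i j, ∑ χ ∈ S, m i χ * m j χ = e + if i = j then 1 else 0)
    (hvan : ∀ i, ∑ χ ∈ S, m i χ * (deg χ : ℤ) = 0) :
    ∃ (v : κ → ι) (a : ι → ℤ) (σ d : ℤ), Function.Injective v ∧ (∀ i, v i ∈ S) ∧
      (σ = 1 ∨ σ = -1) ∧ (∀ i, ∀ χ ∈ S, m i χ = a χ + if χ = v i then σ else 0) ∧
      (∀ i, a (v i) = d) ∧
      (d + σ) ^ 2 + ((Fintype.card κ : ℤ) - 1) * d ^ 2 +
        ∑ χ ∈ S \ Finset.univ.image v, a χ ^ 2 = e + 1 := by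
  obtain ⟨i₀⟩ : Nonempty κ := Fintype.card_pos_iff.1 (by omega)
  have hD : ∀ j : {j : κ // j ≠ i₀}, ∃ a b, a ∈ S ∧ b ∈ S ∧ a ≠ b ∧ ∀ χ ∈ S,
      m i₀ χ - m j χ = (if χ = a then 1 else 0) - (if χ = b then 1 else 0) := by
    intro j
    refine exists_diff hdeg ?_ ?_
    · rw [Finset.sum_congr rfl fun χ _ => show (m i₀ χ - m j χ) ^ 2 =
        m i₀ χ * m i₀ χ - 2 * (m i₀ χ * m j χ) + m j χ * m j χ by ring,
        Finset.sum_add_distrib, Finset.sum_sub_distrib, ← Finset.mul_sum, hinner, hinner, hinner,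
        if_pos rfl, if_neg j.2.symm, if_pos rfl]
      ring
    · simp only [sub_mul, Finset.sum_sub_distrib, hvan, sub_zero]
  choose pp nn hpS hnS hpn hDeq using hD
  have hint : ∀ j k : {j : κ // j ≠ i₀}, j ≠ k → (pp j = pp k ↔ nn j ≠ nn k) := by
    intro j k hjk
    have h1 : ∑ χ ∈ S, (m i₀ χ - m j χ) * (m i₀ χ - m k χ) = 1 := by
      simp only [sub_mul, mul_sub, Finset.sum_sub_distrib, hinner]
      rw [if_pos trivial, if_neg j.2, if_neg k.2.symm, if_neg fun h => hjk (Subtype.ext h)]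
      ring
    rw [Finset.sum_congr rfl fun χ hχ => by rw [hDeq j χ hχ, hDeq k χ hχ]] at h1
    simp only [sub_mul, mul_sub, ite_mul, one_mul, zero_mul, Finset.sum_sub_distrib,
      Finset.sum_ite_eq', if_pos (hpS j), if_pos (hnS j)] at h1
    constructor
    · intro hp hn
      have q1 : pp j ≠ nn k := fun h => hpn k (hp.symm.trans h)
      have q2 : nn j ≠ pp k := fun h => hpn j (hp.trans h.symm)
      simp [hp, hn, q1, q2, q1.symm, q2.symm, (hpn k), (hpn k).symm] at h1
    · intro hn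
      by_contra hp
      rw [if_neg hp, if_neg hn] at h1
      split_ifs at h1 <;> omega
  have main : ∃ (v : κ → ι) (σ : ℤ), (σ = 1 ∨ σ = -1) ∧ Function.Injective v ∧
      (∀ i, v i ∈ S) ∧ ∀ j, j ≠ i₀ → ∀ χ ∈ S,
        m i₀ χ - m j χ = σ * ((if χ = v i₀ then 1 else 0) - (if χ = v j then 1 else 0)) := by
    obtain ⟨j₁, hj₁⟩ := Fintype.exists_ne_of_one_lt_card hκ i₀
    set J₁ : {j : κ // j ≠ i₀} := ⟨j₁, hj₁⟩
    by_cases hall : ∀ j, pp j = pp J₁
    · refine ⟨fun i => if h : i = i₀ then pp J₁ else nn ⟨i, h⟩, 1, Or.inl rfl, ?_, ?_, ?_⟩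
      · intro i j h
        by_cases hi : i = i₀ <;> by_cases hj : j = i₀
        · rw [hi, hj]
        · simp only [dif_pos hi, dif_neg hj] at h
          exact absurd ((hall ⟨j, hj⟩).trans h) (hpn _)
        · simp only [dif_neg hi, dif_pos hj] at h
          exact absurd ((hall ⟨i, hi⟩).trans h.symm) (hpn _)
        · simp only [dif_neg hi, dif_neg hj] at h
          by_contra hij
          exact (hint ⟨i, hi⟩ ⟨j, hj⟩ fun e => hij (congrArg Subtype.val e)).1
            ((hall _).trans (hall _).symm) h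
      · intro i
        dsimp only
        split_ifs
        · exact hpS _
        · exact hnS _
      · intro j hj χ hχ
        dsimp only
        simp only [dif_pos, dif_neg hj, one_mul]
        rw [hDeq ⟨j, hj⟩ χ hχ, hall ⟨j, hj⟩]
    · push Not at hall
      obtain ⟨j₂, hj₂⟩ := hall
      have hne12 : j₂ ≠ J₁ := fun h => hj₂ (h ▸ rfl)
      have h12 : nn j₂ = nn J₁ := not_not.1 fun h => hj₂ ((hint _ _ hne12).2 h)
      have hn : ∀ j, nn j = nn J₁ := by
        intro j
        by_cases hjJ : j = J₁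
        · rw [hjJ]
        by_cases hj2 : j = j₂
        · rw [hj2, h12]
        by_contra h
        have h1 := (hint j J₁ hjJ).2 h
        have h2 := (hint j j₂ hj2).2 fun h' => h (h'.trans h12)
        exact hj₂ (h2.symm.trans h1)
      refine ⟨fun i => if h : i = i₀ then nn J₁ else pp ⟨i, h⟩, -1, Or.inr rfl, ?_, ?_, ?_⟩
      · intro i j h
        by_cases hi : i = i₀ <;> by_cases hj : j = i₀
        · rw [hi, hj]
        · simp only [dif_pos hi, dif_neg hj] at h
          exact absurd ((hn ⟨j, hj⟩).trans h).symm (hpn _)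
        · simp only [dif_neg hi, dif_pos hj] at h
          exact absurd (h.trans (hn ⟨i, hi⟩).symm) (hpn _)
        · simp only [dif_neg hi, dif_neg hj] at h
          by_contra hij
          exact (hint ⟨i, hi⟩ ⟨j, hj⟩ fun e => hij (congrArg Subtype.val e)).1 h
            ((hn _).trans (hn _).symm)
      · intro i
        dsimp only
        split_ifs
        · exact hnS _
        · exact hpS _
      · intro j hj χ hχ
        dsimp only
        simp only [dif_pos, dif_neg hj]
        rw [hDeq ⟨j, hj⟩ χ hχ, hn ⟨j, hj⟩]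
        ring
  obtain ⟨v, σ, hσ, hv, hvS, hdiff⟩ := main
  set a : ι → ℤ := fun χ => m i₀ χ - if χ = v i₀ then σ else 0 with ha
  have hm : ∀ i, ∀ χ ∈ S, m i χ = a χ + if χ = v i then σ else 0 := by
    intro i χ hχ
    by_cases hi : i = i₀
    · rw [hi, ha]; ring
    · have h := hdiff i hi χ hχ
      simp only [ha]
      by_cases h1 : χ = v i₀ <;> by_cases h2 : χ = v i
      · rw [if_pos h1, if_pos h2] at h ⊢; linarith
      · rw [if_pos h1, if_neg h2] at h ⊢; linarith
      · rw [if_neg h1, if_pos h2] at h ⊢; linarith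
      · rw [if_neg h1, if_neg h2] at h ⊢; linarith
  have hexp : ∀ i j, ∑ χ ∈ S, a χ ^ 2 + σ * a (v i) + σ * a (v j) +
      (if i = j then 1 else 0) = e + if i = j then 1 else 0 := by
    intro i j
    rw [← hinner i j]
    conv_rhs => rw [Finset.sum_congr rfl (g := fun χ => (a χ + if χ = v i then σ else 0) *
      (a χ + if χ = v j then σ else 0)) (fun χ hχ => by rw [hm i χ hχ, hm j χ hχ])]
    simp only [add_mul, mul_add, ite_mul, zero_mul, mul_ite, mul_zero,
      Finset.sum_add_distrib, Finset.sum_ite_eq', if_pos (hvS i), if_pos (hvS j), hv.eq_iff]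
    have hs : σ * σ = 1 := by rcases hσ with h | h <;> rw [h] <;> norm_num
    split_ifs with h1 h2 h2
    · simp only [hs, sq]; ring
    · exact absurd h1.symm h2
    · exact absurd h2.symm h1
    · simp only [sq]; ring
  have hd : ∀ i, a (v i) = a (v i₀) := by
    intro i
    by_cases hi : i = i₀
    · rw [hi]
    · have h1 := hexp i i
      have h2 := hexp i i₀
      rw [if_pos rfl] at h1
      rw [if_neg hi] at h2
      have h3 : σ * (a (v i) - a (v i₀)) = 0 := by linarith
      rcases mul_eq_zero.1 h3 with h | h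
      · rcases hσ with h' | h' <;> omega
      · omega
  refine ⟨v, a, σ, a (v i₀), hv, hvS, hσ, hm, hd, ?_⟩
  have h := hinner i₀ i₀
  rw [if_pos rfl] at h
  have hsub : Finset.univ.image v ⊆ S := fun χ hχ => by
    obtain ⟨i, -, rfl⟩ := Finset.mem_image.1 hχ
    exact hvS i
  rw [← Finset.sum_sdiff hsub, Finset.sum_image (fun i _ j _ hij => hv hij),
    ← Finset.add_sum_erase _ _ (Finset.mem_univ i₀), hm i₀ (v i₀) (hvS i₀), if_pos rfl,
    Finset.sum_congr rfl (s₂ := Finset.univ.erase i₀) (g := fun _ => a (v i₀) * a (v i₀))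
      (fun i hi => by
        rw [hm i₀ (v i) (hvS i), if_neg fun hvi => Finset.ne_of_mem_erase hi (hv hvi), add_zero,
          hd i]),
    Finset.sum_const, Finset.card_erase_of_mem (Finset.mem_univ _), Finset.card_univ,
    nsmul_eq_mul, Finset.sum_congr rfl (s₂ := S \ Finset.univ.image v) (g := fun χ => a χ * a χ)
      (fun χ hχ => by
        obtain ⟨h1, h2⟩ := Finset.mem_sdiff.1 hχ
        rw [hm i₀ χ h1, if_neg fun h' => h2 (Finset.mem_image.2 ⟨i₀, Finset.mem_univ _, h'.symm⟩),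
          add_zero])] at h
  rw [← h]
  simp only [sq]
  push_cast [show 1 ≤ Fintype.card κ by omega]
  ring

end Cfsg.Agent.BlockThms.AbelianTI
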