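import Mathlib
import Cfsg.Agent.BlockThms.OrderP.Lift
import Cfsg.Agent.Invol.Section942

/-!
# An abelian Sylow subgroup with an automizer acting semiregularly: lifting functions

`P` is abelian, `e = [N(P) : C(P)]`, and `C(y) ∩ N(P) = C(P)` for `y ∈ P ∖ 1`.
-/

set_option autoImplicit false

namespace Cfsg.Agent.BlockThms.AbelianTI

open scoped ComplexConjugate
open Cfsg.Agent Cfsg.Agent.Blocks Cfsg.Agent.BlockThms.OrderP

universe u

variable {G : Type u} [Group G] {p : ℕ}

/-- `P` abelian with a semiregular automizer of order `e`. -/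
structure Setup (P : Sylow p G) (e : ℕ) : Prop where
  comm : IsMulCommutative P
  rel : (Subgroup.centralizer (P : Set G)).relIndex (Subgroup.normalizer (P : Set G)) = e
  semi : ∀ y : G, y ∈ (P : Subgroup G) → y ≠ 1 →
    Subgroup.centralizer ({y} : Set G) ⊓ Subgroup.normalizer (P : Set G) =
      Subgroup.centralizer (P : Set G)

variable [Fintype G] [Fact p.Prime] {P : Sylow p G} {e : ℕ} (hS : Setup P e)
include hS

omit [Fintype G] [Fact p.Prime] in
theorem Setup.mul_comm' {u v : G} (hu : u ∈ (P : Subgroup G)) (hv : v ∈ (P : Subgroup G)) :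
    u * v = v * u :=
  congrArg Subtype.val (hS.comm.is_comm.comm (⟨u, hu⟩ : (P : Subgroup G)) ⟨v, hv⟩)

omit [Fintype G] [Fact p.Prime] in
theorem Setup.le_centralizer : (P : Subgroup G) ≤ Subgroup.centralizer (P : Set G) :=
  fun _ hu => Subgroup.mem_centralizer_iff.2 fun _ hv => hS.mul_comm' hv hu

theorem Setup.card_normalizer :
    Nat.card (Subgroup.normalizer (P : Set G)) =
      e * Nat.card (Subgroup.centralizer (P : Set G)) := by
  rw [← Subgroup.card_mul_index ((Subgroup.centralizer (P : Set G)).subgroupOf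
    (Subgroup.normalizer (P : Set G))), mul_comm e,
    Nat.card_congr (Subgroup.subgroupOfEquivOfLe (Subgroup.centralizer_le_normalizer _)).toEquiv,
    ← hS.rel]
  rfl

theorem Setup.e_pos : 0 < e := by
  rw [← hS.rel]
  exact Nat.pos_of_ne_zero Subgroup.index_ne_zero_of_finite

omit [Fintype G] [Fact p.Prime] in
theorem Setup.conj_mem {u c : G} (hu : u ∈ (P : Subgroup G))
    (hc : c ∈ Subgroup.normalizer (P : Set G)) : c * u * c⁻¹ ∈ (P : Subgroup G) :=
  (Subgroup.mem_normalizer_iff.1 hc u).1 hu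

/-- Burnside: fusion in `P` is controlled by the normalizer. -/
theorem Setup.exists_normalizer_conj {u c : G} (hu : u ∈ (P : Subgroup G))
    (hc : c * u * c⁻¹ ∈ (P : Subgroup G)) :
    ∃ t ∈ Subgroup.normalizer (P : Set G), t * u * t⁻¹ = c * u * c⁻¹ :=
  Fusion.exists_mem_normalizer_conj_of_isMulCommutative P hS.comm hu c hc

theorem Setup.complement {x : G} (hx : x ∈ (P : Subgroup G)) (hx1 : x ≠ 1) :
    Cfsg.HasNormalPComplement p (Subgroup.centralizer ({x} : Set G) : Subgroup G) := by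
  have hle : (P : Subgroup G) ≤ Subgroup.centralizer ({x} : Set G) := fun v hv =>
    Subgroup.mem_centralizer_singleton_iff.2 (hS.mul_comm' hv hx)
  refine Fusion.hasNormalPComplement_of_normalizer_le_centralizer (P.subtype hle)
    fun c hc => Subgroup.mem_centralizer_iff.2 fun a ha => Subtype.ext ?_
  have hcN : (c : G) ∈ Subgroup.normalizer (P : Set G) := by
    refine Subgroup.mem_normalizer_iff.2 fun v => ?_
    have h := Subgroup.mem_normalizer_iff.1 hc
    constructor
    · intro hv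
      exact (h ⟨v, hle hv⟩).1 hv
    · intro hv
      have hvC : (c : G)⁻¹ * ((c : G) * v * (c : G)⁻¹) * (c : G) ∈
          Subgroup.centralizer ({x} : Set G) :=
        mul_mem (mul_mem (inv_mem c.2) (hle hv)) c.2
      rw [show (c : G)⁻¹ * ((c : G) * v * (c : G)⁻¹) * (c : G) = v by group] at hvC
      exact (h ⟨v, hvC⟩).2 hv
  have hcC : (c : G) ∈ Subgroup.centralizer (P : Set G) := hS.semi x hx hx1 ▸ ⟨c.2, hcN⟩
  exact Subgroup.mem_centralizer_iff.1 hcC (a : G) ha

theorem Setup.factorization_centralizer {x : G} (hx : x ∈ (P : Subgroup G)) :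
    p ^ (Nat.card (Subgroup.centralizer ({x} : Set G))).factorization p =
      Nat.card (P : Subgroup G) := by
  have hle : (P : Subgroup G) ≤ Subgroup.centralizer ({x} : Set G) := fun v hv =>
    Subgroup.mem_centralizer_singleton_iff.2 (hS.mul_comm' hv hx)
  rw [← (P.subtype hle).card_eq_multiplicity, Sylow.coe_subtype,
    Nat.card_congr (Subgroup.subgroupOfEquivOfLe hle).toEquiv]

/-- The p'-core of the centralizer has index `|P|` and contains the regular elements. -/
theorem Setup.core_centralizer {x : G} (hx : x ∈ (P : Subgroup G)) (hx1 : x ≠ 1) :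
    Nat.card (Cfsg.pPrimeCore p (Subgroup.centralizer ({x} : Set G) : Subgroup G)) *
        Nat.card (P : Subgroup G) = Nat.card (Subgroup.centralizer ({x} : Set G)) ∧
      ∀ y : Subgroup.centralizer ({x} : Set G),
        y ∈ Cfsg.pPrimeCore p (Subgroup.centralizer ({x} : Set G) : Subgroup G) ↔
          ¬ p ∣ orderOf y := by
  have hp : p.Prime := Fact.out
  obtain ⟨L, hL, hc, j, hj⟩ :=
    Fusion.hasNormalPComplement_iff_exists.1 (hS.complement hx hx1)
  set K := Cfsg.pPrimeCore p (Subgroup.centralizer ({x} : Set G) : Subgroup G) with hK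
  obtain ⟨i, -, hi⟩ := (Nat.dvd_prime_pow hp).1
    (hj ▸ Subgroup.index_dvd_of_le (Core.le_pPrimeCore (p := p) hc))
  have hKodd : ¬ p ∣ Nat.card K := Core.not_dvd_card_pPrimeCore
  refine ⟨?_, fun y => ⟨fun hy hd => hKodd (hd.trans (Subgroup.orderOf_dvd_natCard K hy)),
    fun hy => BlockThms.mem_of_regular hp ⟨i, hi⟩ hy⟩⟩
  have h1 := K.card_mul_index
  rw [hi] at h1
  have h2 := congrArg (fun t => t.factorization p) h1
  simp only [Nat.factorization_mul Nat.card_pos.ne' (pow_ne_zero _ hp.ne_zero), Finsupp.add_apply,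
    Nat.factorization_eq_zero_of_not_dvd hKodd, hp.factorization_pow, Finsupp.single_eq_same,
    zero_add] at h2
  rw [← hS.factorization_centralizer hx, ← h2]
  exact h1

theorem Setup.card_fiber {x : G} (hx : x ∈ (P : Subgroup G)) (hx1 : x ≠ 1) :
    (fiber p x).card * Nat.card (P : Subgroup G) =
      Nat.card (Subgroup.centralizer ({x} : Set G)) := by
  classical
  have hp : p.Prime := Fact.out
  obtain ⟨hcard, hmem⟩ := hS.core_centralizer hx hx1
  have h := sum_pPart_fiber hp (exists_orderOf_pow hx) (fun _ => (1 : ℂ))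
  have e1 : ∀ s : Subgroup.centralizer ({x} : Set G),
      (if p ∣ orderOf s then (0 : ℂ) else 1) =
        if s ∈ Cfsg.pPrimeCore p (Subgroup.centralizer ({x} : Set G) : Subgroup G) then 1 else 0 :=
    fun s => by
      by_cases hs : p ∣ orderOf s
      · rw [if_pos hs, if_neg fun h => (hmem s).1 h hs]
      · rw [if_neg hs, if_pos ((hmem s).2 hs)]
  simp only [e1, Finset.sum_boole, Finset.sum_const, nsmul_eq_mul, mul_one] at h
  rw [← hcard, show fiber p x = Finset.univ.filter (fun g => pPartOf p g = x) by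
    ext; simp [mem_fiber], Nat.cast_injective h, ← Fintype.card_subtype,
    ← Nat.card_eq_fintype_card]

/-- The number of elements carrying a given `x ≠ 1` of `P` into `P`. -/
theorem Setup.card_into {x : G} (hx : x ∈ (P : Subgroup G)) (hx1 : x ≠ 1) :
    Nat.card {c : G // c⁻¹ * x * c ∈ (P : Subgroup G)} =
      e * Nat.card (Subgroup.centralizer ({x} : Set G)) := by
  classical
  set N := Subgroup.normalizer (P : Set G)
  set C := Subgroup.centralizer (P : Set G)
  set D := Subgroup.centralizer ({x} : Set G)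
  -- both sides times `|C|` count the pairs in `D × N`
  have key : Nat.card (D × N) =
      Nat.card {c : G // c⁻¹ * x * c ∈ (P : Subgroup G)} * Nat.card C := by
    let f : D × N → {c : G // c⁻¹ * x * c ∈ (P : Subgroup G)} := fun dn =>
      ⟨(dn.1 : G) * (dn.2 : G)⁻¹, by
        have h := hS.conj_mem hx dn.2.2
        have e1 : ((dn.1 : G) * (dn.2 : G)⁻¹)⁻¹ * x * ((dn.1 : G) * (dn.2 : G)⁻¹) =
            (dn.2 : G) * ((dn.1 : G)⁻¹ * (x * (dn.1 : G))) * (dn.2 : G)⁻¹ := by group
        rw [e1, ← Subgroup.mem_centralizer_singleton_iff.1 dn.1.2, inv_mul_cancel_left]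
        exact h⟩
    have hsurj : Function.Surjective f := by
      rintro ⟨c, hc⟩
      obtain ⟨t, ht, htc⟩ := hS.exists_normalizer_conj hx (c := c⁻¹) (by rwa [inv_inv])
      rw [inv_inv] at htc
      refine ⟨(⟨c * t, Subgroup.mem_centralizer_singleton_iff.2 ?_⟩, ⟨t, ht⟩), ?_⟩
      · calc c * t * x = c * (t * x * t⁻¹) * t := by group
          _ = c * (c⁻¹ * x * c) * t := by rw [htc]
          _ = x * (c * t) := by group
      · exact Subtype.ext (mul_inv_cancel_right c t)
    have hfib : ∀ c, Nat.card {dn : D × N // f dn = c} = Nat.card C := by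
      intro c
      obtain ⟨⟨d₀, n₀⟩, rfl⟩ := hsurj c
      have hCD : ∀ g ∈ C, g ∈ D ∧ g ∈ N := fun g hg => by
        have h : g ∈ D ⊓ N := by rw [hS.semi x hx hx1]; exact hg
        exact h
      refine Nat.card_congr
        { toFun := fun dn => ⟨(d₀ : G)⁻¹ * (dn.1.1 : G), ?_⟩
          invFun := fun g => ⟨(⟨d₀ * g.1, mul_mem d₀.2 (hCD g.1 g.2).1⟩,
            ⟨n₀ * g.1, mul_mem n₀.2 (hCD g.1 g.2).2⟩), Subtype.ext (by simp [f, mul_assoc])⟩
          left_inv := ?_
          right_inv := fun g => Subtype.ext (by simp) }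
      · have h := congrArg Subtype.val dn.2
        have hd : (d₀ : G)⁻¹ * (dn.1.1 : G) = (n₀ : G)⁻¹ * (dn.1.2 : G) := by
          simp only [f] at h
          rw [mul_inv_eq_iff_eq_mul] at h
          rw [h]; group
        show _ ∈ Subgroup.centralizer (P : Set G)
        rw [← hS.semi x hx hx1]
        refine Subgroup.mem_inf.2 ⟨mul_mem (inv_mem d₀.2) dn.1.1.2, ?_⟩
        rw [hd]
        exact mul_mem (inv_mem n₀.2) dn.1.2.2
      · rintro ⟨⟨d, n⟩, hdn⟩
        have h := congrArg Subtype.val hdn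
        simp only [f] at h
        rw [mul_inv_eq_iff_eq_mul] at h
        refine Subtype.ext (Prod.ext (Subtype.ext (by simp)) (Subtype.ext ?_))
        show (n₀ : G) * ((d₀ : G)⁻¹ * (d : G)) = n
        rw [h]; group
    rw [← Nat.card_congr (Equiv.sigmaFiberEquiv f), Nat.card_sigma]
    simp only [hfib, Finset.sum_const, Finset.card_univ, smul_eq_mul, ← Nat.card_eq_fintype_card]
  refine Nat.eq_of_mul_eq_mul_right (Nat.card_pos : 0 < Nat.card C) ?_
  rw [← key, Nat.card_prod, hS.card_normalizer]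
  ring

theorem Setup.adm_isConj {φ : G → ℂ} (hφ : Adm P φ) {x y : G} (hx : x ∈ (P : Subgroup G))
    (hy : y ∈ (P : Subgroup G)) (h : IsConj x y) : φ y = φ x := by
  obtain ⟨c, hc⟩ := isConj_iff.1 h
  obtain ⟨t, ht, htc⟩ := hS.exists_normalizer_conj hx (c := c) (hc.symm ▸ hy)
  rw [← hc, ← htc]
  exact hφ.inv t ht x hx

theorem Setup.lift_apply {φ : G → ℂ} (hφ : Adm P φ) {g y : G} (hy : y ∈ (P : Subgroup G))
    (h : IsConj (pPartOf p g) y) : lift P φ g = φ y := by
  have hmem : ∃ c : G, c * pPartOf p g * c⁻¹ ∈ (P : Subgroup G) :=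
    exists_conj_mem P (orderOf_pPartOf Fact.out g)
  have h' : rep P (pPartOf p g) = hmem.choose * pPartOf p g * hmem.choose⁻¹ := by
    classical
    rw [rep, dif_pos hmem]
  rw [lift, h']
  exact hS.adm_isConj hφ hy hmem.choose_spec
    (h.symm.trans (isConj_iff.2 ⟨hmem.choose, rfl⟩))

theorem Setup.lift_class {φ : G → ℂ} (hφ : Adm P φ) : Cfsg.IsClassFunction G (lift P φ) := by
  intro g h
  obtain ⟨c, hc⟩ := exists_conj_mem P (orderOf_pPartOf (Fact.out : p.Prime) g)
  rw [hS.lift_apply hφ hc (isConj_iff.2 ⟨c, rfl⟩),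
    hS.lift_apply hφ hc ((isConj_iff.2 ⟨c * h⁻¹, by
      rw [pPartOf_conj (p := p)]; group⟩))]

theorem Setup.lift_mem {φ : G → ℂ} (hφ : Adm P φ) {g x : G} (hx : x ∈ (P : Subgroup G))
    (hg : g ∈ fiber p x) : lift P φ g = φ x :=
  hS.lift_apply hφ hx (by rw [mem_fiber.1 hg])

theorem Setup.lift_regular {φ : G → ℂ} (hφ : Adm P φ) {g : G} (hg : ¬ p ∣ orderOf g) :
    lift P φ g = 0 := by
  rw [hS.lift_apply hφ (one_mem _) (by rw [(pPartOf_eq_one_iff Fact.out g).2 hg]), hφ.one]

open scoped Classical in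
/-- Sums of a lift against a class function. -/
theorem Setup.sum_lift {φ : G → ℂ} (hφ : Adm P φ) {χ : G → ℂ}
    (hχ : Cfsg.IsClassFunction G χ) :
    (e : ℂ) * (Nat.card (P : Subgroup G) : ℂ) * ∑ g, lift P φ g * χ g =
      (Nat.card G : ℂ) * ∑ x : (P : Subgroup G), φ x * avg p χ x := by
  have hp : p.Prime := Fact.out
  set H : G → ℂ := fun u => ∑ g ∈ fiber p u, lift P φ g * χ g with hH
  have hl := hS.lift_class hφ
  have hHc : ∀ c u, H (c * u * c⁻¹) = H u := fun c u =>
    sum_fiber_conj (χ := fun g => lift P φ g * χ g) (fun g h => by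
      simp only [hl g h, hχ g h]) c u
  have htot : ∑ g, lift P φ g * χ g = ∑ u, H u := by
    rw [hH]
    exact (Finset.sum_fiberwise Finset.univ (pPartOf p) _).symm.trans
      (Finset.sum_congr rfl fun u _ => Finset.sum_congr (by ext g; simp [mem_fiber]) fun _ _ => rfl)
  set w : G → ℂ := fun u => (Nat.card (Subgroup.centralizer ({u} : Set G)) : ℂ)⁻¹ with hw
  have hwc : ∀ c u, w (c * u * c⁻¹) = w u := fun c u => by
    simp only [hw]
    rw [BlockThms.card_centralizer_conj]
  have hcount : ∀ u, H u ≠ 0 →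
      (Nat.card {c : G // c⁻¹ * u * c ∈ (P : Subgroup G)} : ℂ) * w u = (e : ℂ) := by
    intro u hu
    obtain ⟨g, hg, hg0⟩ := Finset.exists_ne_zero_of_sum_ne_zero hu
    obtain ⟨d, hd⟩ := exists_conj_mem P (orderOf_pPartOf hp g)
    rw [mem_fiber.1 hg] at hd
    have hd1 : d * u * d⁻¹ ≠ 1 := by
      intro h1
      rw [conj_eq_one_iff] at h1
      apply hg0
      rw [hS.lift_regular hφ ((pPartOf_eq_one_iff hp g).1
        ((mem_fiber.1 hg).trans h1)), zero_mul]
    have e1 : Nat.card {c : G // c⁻¹ * u * c ∈ (P : Subgroup G)} =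
        Nat.card {c : G // c⁻¹ * (d * u * d⁻¹) * c ∈ (P : Subgroup G)} := by
      refine Nat.card_congr ((Equiv.mulLeft d).subtypeEquiv fun c => ?_)
      rw [Equiv.coe_mulLeft, show (d * c)⁻¹ * (d * u * d⁻¹) * (d * c) = c⁻¹ * u * c by group]
    have h1 : Nat.card (Subgroup.centralizer ({d * u * d⁻¹} : Set G)) =
        Nat.card (Subgroup.centralizer ({u} : Set G)) := BlockThms.card_centralizer_conj u d
    rw [e1, hS.card_into hd hd1, h1, hw]
    push_cast
    exact mul_inv_cancel_right₀ (Nat.cast_ne_zero.2 Nat.card_pos.ne') _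
  have hdouble : (Nat.card G : ℂ) * ∑ x : (P : Subgroup G), H x * w x = (e : ℂ) * ∑ u, H u := by
    have h1 : ∀ x : G, ∑ c : G, H (c * x * c⁻¹) * w (c * x * c⁻¹) =
        (Nat.card G : ℂ) * (H x * w x) := fun x => by
      simp [hHc, hwc, Nat.card_eq_fintype_card]
    rw [Finset.mul_sum, ← Finset.sum_congr rfl fun (x : (P : Subgroup G)) _ => h1 x,
      Finset.sum_comm, Finset.mul_sum]
    have h2 : ∀ c : G, ∑ x : (P : Subgroup G), H (c * x * c⁻¹) * w (c * x * c⁻¹) =
        ∑ u, if c⁻¹ * u * c ∈ (P : Subgroup G) then H u * w u else 0 := by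
      intro c
      rw [← Finset.sum_filter]
      refine Finset.sum_nbij' (fun x => c * (x : G) * c⁻¹)
        (fun u => if hu : c⁻¹ * u * c ∈ (P : Subgroup G) then ⟨_, hu⟩ else 1) ?_ ?_ ?_ ?_ ?_
      · intro x _
        refine Finset.mem_filter.2 ⟨Finset.mem_univ _, ?_⟩
        rw [show c⁻¹ * (c * (x : G) * c⁻¹) * c = x by group]
        exact x.2
      · intro u _; exact Finset.mem_univ _
      · intro x _
        have e1 : c⁻¹ * (c * (x : G) * c⁻¹) * c = x := by group
        rw [dif_pos (by rw [e1]; exact x.2)]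
        exact Subtype.ext e1
      · intro u hu
        rw [dif_pos (Finset.mem_filter.1 hu).2]
        show c * (c⁻¹ * u * c) * c⁻¹ = u
        group
      · intro x _; rfl
    rw [Finset.sum_congr rfl fun c _ => h2 c, Finset.sum_comm]
    refine Finset.sum_congr rfl fun u _ => ?_
    rw [← Finset.sum_filter, Finset.sum_const, nsmul_eq_mul, ← Fintype.card_subtype,
      ← Nat.card_eq_fintype_card]
    by_cases hu : H u = 0
    · simp [hu]
    · rw [mul_left_comm, hcount u hu, mul_comm]
  have hpt : ∀ x : (P : Subgroup G),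
      H x * w x = (Nat.card (P : Subgroup G) : ℂ)⁻¹ * (φ x * avg p χ x) := by
    intro x
    have e1 : H x = φ x * ∑ g ∈ fiber p (x : G), χ g := by
      simp only [hH]
      rw [Finset.mul_sum]
      exact Finset.sum_congr rfl fun g hg => by rw [hS.lift_mem hφ x.2 hg]
    by_cases hx1 : (x : G) = 1
    · rw [e1, hx1, hφ.one]; simp
    · have hc := hS.card_fiber x.2 hx1
      have hf : ((fiber p (x : G)).card : ℂ) ≠ 0 :=
        Nat.cast_ne_zero.2 (Finset.card_ne_zero.2 ⟨_, self_mem_fiber x.2⟩)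
      rw [e1, avg, hw]
      simp only [← hc, Nat.cast_mul, mul_inv]
      field_simp
  rw [Finset.sum_congr rfl fun x _ => hpt x, ← Finset.mul_sum] at hdouble
  rw [htot]
  have hP : (Nat.card (P : Subgroup G) : ℂ) ≠ 0 := Nat.cast_ne_zero.2 Nat.card_pos.ne'
  calc (e : ℂ) * (Nat.card (P : Subgroup G) : ℂ) * ∑ u, H u
      = (Nat.card (P : Subgroup G) : ℂ) * ((e : ℂ) * ∑ u, H u) := by ring
    _ = _ := by rw [← hdouble]; field_simp

open scoped Classical in
theorem Setup.classInner_lift {φ : G → ℂ} (hφ : Adm P φ) {χ : G → ℂ}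
    (hχ : Cfsg.IsClassFunction G χ) :
    (e : ℂ) * (Nat.card (P : Subgroup G) : ℂ) * Cfsg.classInner (lift P φ) χ =
      ∑ x : (P : Subgroup G), φ x * conj (avg p χ x) := by
  have h := hS.sum_lift hφ (χ := fun g => conj (χ g)) (fun g h => by simp only [hχ g h])
  have hav : ∀ x : G, avg p (fun g => conj (χ g)) x = conj (avg p χ x) := fun x => by
    simp [avg, map_sum]
  simp only [hav] at h
  rw [Cfsg.classInner, mul_left_comm, h, inv_mul_cancel_left₀ Char.card_ne_zero]

theorem Setup.avg_lift {φ : G → ℂ} (hφ : Adm P φ) {x : G} (hx : x ∈ (P : Subgroup G)) :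
    avg p (lift P φ) x = φ x := by
  have hne : ((fiber p x).card : ℂ) ≠ 0 :=
    Nat.cast_ne_zero.2 (Finset.card_ne_zero.2 ⟨x, self_mem_fiber hx⟩)
  rw [avg, Finset.sum_congr rfl fun g hg => hS.lift_mem hφ hx hg, Finset.sum_const, nsmul_eq_mul,
    inv_mul_cancel_left₀ hne]

open scoped Classical in
theorem Setup.classInner_lift_lift {φ ψ : G → ℂ} (hφ : Adm P φ) (hψ : Adm P ψ) :
    (e : ℂ) * (Nat.card (P : Subgroup G) : ℂ) * Cfsg.classInner (lift P φ) (lift P ψ) =
      ∑ x : (P : Subgroup G), φ x * conj (ψ x) := by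
  rw [hS.classInner_lift hφ (hS.lift_class hψ)]
  exact Finset.sum_congr rfl fun x _ => by rw [hS.avg_lift hψ x.2]

/-- A lift is a generalized character as soon as it is one on `P`. -/
theorem Setup.isGeneralized_lift {φ : G → ℂ} (hφ : Adm P φ)
    (hg : Cfsg.IsGeneralizedCharacter (P : Subgroup G) fun x => φ x) :
    Cfsg.IsGeneralizedCharacter G (lift P φ) := by
  classical
  have hp : p.Prime := Fact.out
  refine Char.isGeneralized_of_elementary (hS.lift_class hφ) fun E q hq hE => ?_
  have : Fintype E := Fintype.ofFinite E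
  have hco : ∀ a : E, pPartOf p (a : G) = ((pPartOf p a : E) : G) := fun a => by
    have h := parts_mul hp
      (show Commute ((pPartOf p a : E) : G) ((pPrimePartOf p a : E) : G) from
        congrArg Subtype.val (commute_pPartOf_pPrimePartOf a).eq)
      (by simpa only [Subgroup.orderOf_coe] using orderOf_pPartOf hp a)
      (by simpa only [Subgroup.orderOf_coe] using not_dvd_orderOf_pPrimePartOf hp a)
    rw [← Subgroup.coe_mul, pPartOf_mul_pPrimePartOf hp] at h
    exact h.1
  let π : E →* G := MonoidHom.mk' (fun a => ((pPartOf p a : E) : G)) fun a b => by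
    rw [OrderP.pPartOf_mul_elementary hq hE]; rfl
  have hπ : IsPGroup p π.range := by
    rw [IsPGroup.iff_orderOf]
    rintro ⟨_, a, rfl⟩
    obtain ⟨j, hj⟩ := orderOf_pPartOf hp a
    exact ⟨j, by rw [← Subgroup.orderOf_coe, ← hj, ← Subgroup.orderOf_coe]; rfl⟩
  obtain ⟨W, hW⟩ := hπ.exists_le_sylow
  obtain ⟨c, hc⟩ := MulAction.exists_smul_eq G W P
  let ι : E →* (P : Subgroup G) := ((MulAut.conj c).toMonoidHom.comp π).codRestrict _ fun a =>
    hc ▸ ⟨π a, hW ⟨a, rfl⟩, rfl⟩
  have hval : (fun a : E => lift P φ (a : G)) = fun a => φ (ι a) := by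
    funext a
    refine hS.lift_apply hφ (ι a).2 (isConj_iff.2 ⟨c, ?_⟩)
    rw [hco]
    rfl
  rw [hval]
  exact Char.isGeneralized_comp ι hg

variable {M : Ideal Cfsg.AlgInt}

open scoped Classical in
/-- Outside the principal block the averages vanish. -/
theorem Setup.avg_eq_zero (hM : Cfsg.IsPModular p M) {x : G} (hx : x ∈ (P : Subgroup G))
    {χ : Cfsg.IrrCharacter G} (hχ : χ ∉ Cfsg.principalBlock M G) :
    avg p (χ : G → ℂ) x = 0 := by
  have h := Invol.section_sum_eq_zero hM (exists_orderOf_pow hx) hχ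
  refine mul_eq_zero_of_right _ ?_
  rw [show fiber p x = Finset.univ.filter (fun g => pPartOf p g = x) by ext; simp [mem_fiber],
    sum_pPart_fiber (Fact.out : p.Prime) (exists_orderOf_pow hx)]
  rw [Finset.sum_filter] at h
  refine Eq.trans (Finset.sum_congr ?_ fun s _ => ?_) h
  · ext; simp
  · split_ifs <;> rfl

/-- In the principal block the values on a section are constant. -/
theorem Setup.apply_mul (hM : Cfsg.IsPModular p M) {x : G} (hx : x ∈ (P : Subgroup G))
    (hx1 : x ≠ 1) {χ : Cfsg.IrrCharacter G} (hχ : χ ∈ Cfsg.principalBlock M G)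
    {g : G} (hg : pPartOf p g = x) : (χ : G → ℂ) g = (χ : G → ℂ) x := by
  have hp : p.Prime := Fact.out
  have hc : pPrimePartOf p g ∈ Subgroup.centralizer ({x} : Set G) :=
    Subgroup.mem_centralizer_singleton_iff.2 (by
      rw [← hg]; exact (commute_pPartOf_pPrimePartOf g).eq.symm)
  conv_lhs => rw [← pPartOf_mul_pPrimePartOf hp g, hg]
  exact Invol.section_constant hM (exists_orderOf_pow hx)
    (Cfsg.pPrimeCore p (Subgroup.centralizer ({x} : Set G) : Subgroup G))
    Core.not_dvd_card_pPrimeCore hχ (v := ⟨_, hc⟩)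
    (((hS.core_centralizer hx hx1).2 _).2 (by
      rw [← Subgroup.orderOf_coe]; exact not_dvd_orderOf_pPrimePartOf hp g))

theorem Setup.apply_eq_avg (hM : Cfsg.IsPModular p M) {x : G} (hx : x ∈ (P : Subgroup G))
    (hx1 : x ≠ 1) {χ : Cfsg.IrrCharacter G} (hχ : χ ∈ Cfsg.principalBlock M G) :
    (χ : G → ℂ) x = avg p (χ : G → ℂ) x := by
  rw [avg, Finset.sum_congr rfl fun g hg => hS.apply_mul hM hx hx1 hχ (mem_fiber.1 hg),
    Finset.sum_const, nsmul_eq_mul, inv_mul_cancel_left₀
      (Nat.cast_ne_zero.2 (Finset.card_ne_zero.2 ⟨x, self_mem_fiber hx⟩))]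

end Cfsg.Agent.BlockThms.AbelianTI
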