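import Mathlib
import Cfsg.Agent.BlockThms.AbelianTI.Lift
import Cfsg.Agent.Invol.BSBig
import Cfsg.Agent.Char.Gen

/-!
# Orbits of linear characters of `P` and the functions `∑ (1 - k)`
-/

set_option autoImplicit false

namespace Cfsg.Agent.BlockThms.AbelianTI

open scoped ComplexConjugate
open Cfsg.Agent Cfsg.Agent.Blocks Cfsg.Agent.BlockThms.OrderP

universe u

variable {G : Type u} [Group G] {p : ℕ}

/-- Conjugation by an element of the normalizer. -/
def conjP (P : Sylow p G) (n : Subgroup.normalizer (P : Set G)) :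
    ↥(P : Subgroup G) →* ↥(P : Subgroup G) where
  toFun x := ⟨(n : G) * (x : G) * (n : G)⁻¹, (Subgroup.mem_normalizer_iff.1 n.2 x).1 x.2⟩
  map_one' := Subtype.ext (by simp)
  map_mul' x y := Subtype.ext (by simp [mul_assoc])

theorem conjP_mul (P : Sylow p G) (n m : Subgroup.normalizer (P : Set G)) :
    conjP P (n * m) = (conjP P n).comp (conjP P m) :=
  MonoidHom.ext fun x => Subtype.ext (by simp [conjP, mul_assoc])

theorem conjP_one (P : Sylow p G) : conjP P 1 = MonoidHom.id _ :=
  MonoidHom.ext fun x => Subtype.ext (by simp [conjP])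

open scoped Classical in
/-- The orbit of a linear character. -/
noncomputable def orb [Fintype G] (P : Sylow p G) (l : ↥(P : Subgroup G) →* ℂˣ) :
    Finset (↥(P : Subgroup G) →* ℂˣ) :=
  Finset.univ.image fun n : Subgroup.normalizer (P : Set G) => l.comp (conjP P n)

variable [Fintype G]

theorem mem_orb {P : Sylow p G} {l k : ↥(P : Subgroup G) →* ℂˣ} :
    k ∈ orb P l ↔ ∃ n : Subgroup.normalizer (P : Set G), l.comp (conjP P n) = k := by
  simp [orb]

theorem mem_orb_self (P : Sylow p G) (l : ↥(P : Subgroup G) →* ℂˣ) : l ∈ orb P l :=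
  mem_orb.2 ⟨1, by rw [conjP_one, MonoidHom.comp_id]⟩

theorem orb_eq_of_mem {P : Sylow p G} {l k : ↥(P : Subgroup G) →* ℂˣ} (h : k ∈ orb P l) :
    orb P k = orb P l := by
  obtain ⟨n, rfl⟩ := mem_orb.1 h
  ext w
  simp only [mem_orb]
  constructor
  · rintro ⟨m, rfl⟩
    exact ⟨n * m, by rw [conjP_mul, MonoidHom.comp_assoc]⟩
  · rintro ⟨m, rfl⟩
    exact ⟨n⁻¹ * m, by rw [MonoidHom.comp_assoc, ← conjP_mul, mul_inv_cancel_left]⟩

theorem one_notMem_orb {P : Sylow p G} {l : ↥(P : Subgroup G) →* ℂˣ} (hl : l ≠ 1) :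
    (1 : ↥(P : Subgroup G) →* ℂˣ) ∉ orb P l := fun h => hl (by
  have h1 := mem_orb_self P l
  rw [← orb_eq_of_mem h, mem_orb] at h1
  obtain ⟨n, hn⟩ := h1
  rw [← hn]
  rfl)

open scoped Classical in
/-- The function `∑ (1 - k)` over an orbit. -/
noncomputable def theta (P : Sylow p G) (l : ↥(P : Subgroup G) →* ℂˣ) : G → ℂ := fun g =>
  if h : g ∈ (P : Subgroup G) then ∑ k ∈ orb P l, (1 - (k ⟨g, h⟩ : ℂ)) else 0

theorem theta_coe (P : Sylow p G) (l : ↥(P : Subgroup G) →* ℂˣ) (x : (P : Subgroup G)) :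
    theta P l x = ∑ k ∈ orb P l, (1 - (k x : ℂ)) := by
  rw [theta, dif_pos x.2]

theorem theta_eq_of_mem {P : Sylow p G} {l k : ↥(P : Subgroup G) →* ℂˣ} (h : k ∈ orb P l) :
    theta P k = theta P l := by
  funext g
  rw [theta, theta, orb_eq_of_mem h]

open scoped Classical in
theorem sum_hom_coe' {P : Sylow p G} (k : ↥(P : Subgroup G) →* ℂˣ) :
    ∑ x, (k x : ℂ) = if k = 1 then (Nat.card (P : Subgroup G) : ℂ) else 0 := by
  split_ifs with h
  · subst h
    simp [Nat.card_eq_fintype_card]
  · exact Invol.sum_hom_coe k h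

open scoped Classical in
theorem sum_hom_conj {P : Sylow p G} (l k : ↥(P : Subgroup G) →* ℂˣ) :
    ∑ x, (l x : ℂ) * conj (k x : ℂ) =
      if l = k then (Nat.card (P : Subgroup G) : ℂ) else 0 := by
  have hconj : ∀ x, conj (k x : ℂ) = ((k x)⁻¹ : ℂˣ) := fun x => by
    have hc := Char.IsChar.inv_eq_conj (Char.isCharacter_hom k) x
    simp only [map_inv] at hc
    exact hc.symm
  simp only [hconj, ← Units.val_mul]
  split_ifs with h
  · subst h
    simp [Nat.card_eq_fintype_card]
  · exact Invol.sum_hom_coe (l * k⁻¹) fun e => h (mul_inv_eq_one.1 e)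

open scoped Classical in
theorem sum_theta (P : Sylow p G) {l : ↥(P : Subgroup G) →* ℂˣ} (hl : l ≠ 1) :
    ∑ x : (P : Subgroup G), theta P l x = (Nat.card (P : Subgroup G) : ℂ) * (orb P l).card := by
  simp only [theta_coe]
  rw [Finset.sum_comm, Finset.sum_congr rfl (g := fun _ => (Nat.card (P : Subgroup G) : ℂ))
    fun k hk => ?_, Finset.sum_const, nsmul_eq_mul, mul_comm]
  have hk1 : k ≠ 1 := fun h => one_notMem_orb hl (by rwa [h] at hk)
  rw [Finset.sum_sub_distrib, sum_hom_coe', if_neg hk1]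
  simp [Nat.card_eq_fintype_card]

open scoped Classical in
theorem sum_theta_mul_conj_hom (P : Sylow p G) {l k : ↥(P : Subgroup G) →* ℂˣ} (hk : k ≠ 1) :
    ∑ x : (P : Subgroup G), theta P l x * conj (k x : ℂ) =
      if k ∈ orb P l then -(Nat.card (P : Subgroup G) : ℂ) else 0 := by
  simp only [theta_coe, Finset.sum_mul]
  rw [Finset.sum_comm]
  simp only [sub_mul, one_mul, Finset.sum_sub_distrib, sum_hom_conj, Finset.sum_ite_eq',
    ← map_sum, sum_hom_coe', if_neg hk, map_zero, Finset.sum_const_zero, zero_sub]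
  split_ifs <;> simp_all

open scoped Classical in
theorem sum_theta_mul_conj (P : Sylow p G) {l k : ↥(P : Subgroup G) →* ℂˣ} (hl : l ≠ 1)
    (hk : k ≠ 1) :
    ∑ x : (P : Subgroup G), theta P l x * conj (theta P k x) =
      (Nat.card (P : Subgroup G) : ℂ) * ((orb P l).card * (orb P k).card +
        if orb P l = orb P k then ((orb P l).card : ℂ) else 0) := by
  have e1 : ∀ w ∈ orb P k, ∑ x : (P : Subgroup G), theta P l x * conj (1 - (w x : ℂ)) =
      (Nat.card (P : Subgroup G) : ℂ) * (orb P l).card +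
        if w ∈ orb P l then (Nat.card (P : Subgroup G) : ℂ) else 0 := by
    intro w hw
    simp only [map_sub, map_one, mul_sub, mul_one, Finset.sum_sub_distrib, sum_theta P hl]
    rw [sum_theta_mul_conj_hom P fun h => one_notMem_orb hk (h ▸ hw)]
    split_ifs <;> ring
  simp only [theta_coe P k, map_sum, Finset.mul_sum]
  rw [Finset.sum_comm, Finset.sum_congr rfl e1, Finset.sum_add_distrib, Finset.sum_const,
    nsmul_eq_mul, mul_add]
  congr 1
  · ring
  split_ifs with h
  · rw [Finset.sum_congr rfl fun w hw => if_pos (h ▸ hw), Finset.sum_const, nsmul_eq_mul, h,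
      mul_comm]
  · rw [mul_zero]
    exact Finset.sum_eq_zero fun w hw => if_neg fun hwl =>
      h ((orb_eq_of_mem hwl).symm.trans (orb_eq_of_mem hw))

variable [Fact p.Prime] {P : Sylow p G} {e : ℕ} (hS : Setup P e)
include hS

/-- A character fixed by an element outside `C(P)` is trivial. -/
theorem Setup.eq_one_of_fixed {l : ↥(P : Subgroup G) →* ℂˣ}
    (n : Subgroup.normalizer (P : Set G)) (hn : (n : G) ∉ Subgroup.centralizer (P : Set G))
    (h : l.comp (conjP P n) = l) : l = 1 := by
  have : IsMulCommutative P := hS.comm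
  let f : ↥(P : Subgroup G) →* ↥(P : Subgroup G) :=
    { toFun := fun x => conjP P n x * x⁻¹
      map_one' := by simp
      map_mul' := fun x y => Subtype.ext (by
        have hc := fun a b : (P : Subgroup G) => hS.mul_comm' a.2 b.2
        simp only [Subgroup.coe_mul, map_mul, mul_inv_rev, Subgroup.coe_inv]
        rw [mul_assoc, ← mul_assoc ((conjP P n y : (P : Subgroup G)) : G),
          hS.mul_comm' (mul_mem (conjP P n y).2 (inv_mem y.2)) (inv_mem x.2), ← mul_assoc]) }
  have hinj : Function.Injective f := by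
    rw [injective_iff_map_eq_one]
    intro x hx
    by_contra hx1
    apply hn
    have h1 : (n : G) * (x : G) * (n : G)⁻¹ = x := congrArg Subtype.val (mul_inv_eq_one.1 hx)
    rw [← hS.semi x x.2 fun h => hx1 (Subtype.ext h)]
    exact Subgroup.mem_inf.2
      ⟨Subgroup.mem_centralizer_singleton_iff.2 (mul_inv_eq_iff_eq_mul.1 h1), n.2⟩
  refine MonoidHom.ext fun y => ?_
  obtain ⟨x, rfl⟩ := (Finite.injective_iff_surjective.1 hinj) y
  show l (conjP P n x * x⁻¹) = 1
  rw [map_mul, map_inv, ← MonoidHom.comp_apply, h, mul_inv_cancel]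

theorem Setup.card_orb {l : ↥(P : Subgroup G) →* ℂˣ} (hl : l ≠ 1) : (orb P l).card = e := by
  classical
  set N := Subgroup.normalizer (P : Set G) with hN
  set C := Subgroup.centralizer (P : Set G) with hC
  have hfix : ∀ c : N, (c : G) ∈ C → conjP P c = MonoidHom.id _ := fun c hc =>
    MonoidHom.ext fun x => Subtype.ext (by
      show (c : G) * (x : G) * (c : G)⁻¹ = x
      rw [← Subgroup.mem_centralizer_iff.1 hc x x.2, mul_inv_cancel_right])
  have h1 := Finset.card_eq_sum_card_fiberwise (s := (Finset.univ : Finset N)) (t := orb P l)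
    (f := fun n : N => l.comp (conjP P n)) fun n _ => mem_orb.2 ⟨n, rfl⟩
  have h2 : ∀ k ∈ orb P l, ((Finset.univ : Finset N).filter
      fun n => l.comp (conjP P n) = k).card = Nat.card C := by
    intro k hk
    obtain ⟨n₀, rfl⟩ := mem_orb.1 hk
    rw [← Nat.card_eq_finsetCard]
    refine Nat.card_congr
      { toFun := fun n => ⟨(n.1 : G) * (n₀ : G)⁻¹, ?_⟩
        invFun := fun c => ⟨⟨(c : G), Subgroup.centralizer_le_normalizer _ c.2⟩ * n₀,
          Finset.mem_filter.2 ⟨Finset.mem_univ _, by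
            rw [conjP_mul, hfix _ c.2, MonoidHom.id_comp]⟩⟩
        left_inv := fun n => Subtype.ext (Subtype.ext (inv_mul_cancel_right _ _))
        right_inv := fun c => Subtype.ext (mul_inv_cancel_right _ _) }
    by_contra hn
    refine hl (hS.eq_one_of_fixed (n.1 * n₀⁻¹) hn ?_)
    rw [conjP_mul, ← MonoidHom.comp_assoc, (Finset.mem_filter.1 n.2).2, MonoidHom.comp_assoc,
      ← conjP_mul, mul_inv_cancel, conjP_one, MonoidHom.comp_id]
  rw [Finset.sum_congr rfl h2, Finset.sum_const, smul_eq_mul, Finset.card_univ,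
    ← Nat.card_eq_fintype_card, hS.card_normalizer] at h1
  exact (Nat.eq_of_mul_eq_mul_right Nat.card_pos h1).symm

omit hS [Fact p.Prime] in
theorem adm_theta (P : Sylow p G) (l : ↥(P : Subgroup G) →* ℂˣ) : Adm P (theta P l) := by
  classical
  constructor
  · rw [theta, dif_pos (one_mem _)]
    refine Finset.sum_eq_zero fun k _ => ?_
    simp [show (⟨1, one_mem _⟩ : (P : Subgroup G)) = 1 from rfl]
  · intro c hc x hx
    rw [theta, dif_pos ((Subgroup.mem_normalizer_iff.1 hc x).1 hx), theta, dif_pos hx]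
    refine Finset.sum_nbij' (fun k => k.comp (conjP P ⟨c, hc⟩))
      (fun k => k.comp (conjP P ⟨c, hc⟩⁻¹)) ?_ ?_ ?_ ?_ ?_
    · intro k hk
      rw [← orb_eq_of_mem (Finset.mem_coe.1 hk)]
      exact mem_orb.2 ⟨_, rfl⟩
    · intro k hk
      rw [← orb_eq_of_mem (Finset.mem_coe.1 hk)]
      exact mem_orb.2 ⟨_, rfl⟩
    · intro k _
      simp only [MonoidHom.comp_assoc, ← conjP_mul, mul_inv_cancel, conjP_one, MonoidHom.comp_id]
    · intro k _
      simp only [MonoidHom.comp_assoc, ← conjP_mul, inv_mul_cancel, conjP_one, MonoidHom.comp_id]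
    · intro k _
      rfl

omit hS [Fact p.Prime] in
theorem isGeneralized_theta (P : Sylow p G) (l : ↥(P : Subgroup G) →* ℂˣ) :
    Cfsg.IsGeneralizedCharacter (P : Subgroup G) fun x => theta P l x := by
  have e1 : (fun x : (P : Subgroup G) => theta P l x) =
      ∑ k ∈ orb P l, ((fun _ => (1 : ℂ)) - fun x => (k x : ℂ)) := by
    funext x
    simp [theta_coe, Finset.sum_apply]
  rw [e1]
  exact Char.isGeneralized_sum _ _ fun k _ => Char.isGeneralized_sub
    (Char.isGeneralized_of_isCharacter Char.isCharacter_one)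
    (Char.isGeneralized_of_isCharacter (Char.isCharacter_hom k))

open scoped Classical in
/-- A function invariant under the normalizer, zero at 1, with vanishing moments is zero. -/
theorem Setup.eq_zero_of_moments {D : ↥(P : Subgroup G) → ℂ} (h1 : D 1 = 0)
    (hinv : ∀ (n : Subgroup.normalizer (P : Set G)) x, D (conjP P n x) = D x)
    (hmom : ∀ l : ↥(P : Subgroup G) →* ℂˣ, l ≠ 1 → ∑ x : (P : Subgroup G), theta P l x * D x = 0) :
    ∀ x, D x = 0 := by
  have : IsMulCommutative P := hS.comm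
  let : CommGroup (P : Subgroup G) :=
    { (inferInstance : Group (P : Subgroup G)) with
      mul_comm := fun a b => Subtype.ext (hS.mul_comm' a.2 b.2) }
  set F : (↥(P : Subgroup G) →* ℂˣ) → ℂ := fun l => ∑ x, (l x : ℂ) * D x with hF
  have hconst : ∀ l, F l = F 1 := by
    intro l
    by_cases hl : l = 1
    · rw [hl]
    have h2 := hmom l hl
    simp only [theta_coe, Finset.sum_mul] at h2
    rw [Finset.sum_comm] at h2
    have e1 : ∀ k ∈ orb P l, ∑ x, (1 - (k x : ℂ)) * D x = F 1 - F l := by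
      intro k hk
      obtain ⟨n, rfl⟩ := mem_orb.1 hk
      simp only [hF, sub_mul, one_mul, Finset.sum_sub_distrib, MonoidHom.one_apply, Units.val_one,
        MonoidHom.comp_apply]
      congr 1
      have hbij : Function.Bijective (conjP P n) := by
        refine Finite.injective_iff_bijective.1 fun a b hab => ?_
        exact Subtype.ext (mul_left_cancel (mul_right_cancel (congrArg Subtype.val hab)))
      rw [← hbij.sum_comp fun x => (l x : ℂ) * D x]
      exact Finset.sum_congr rfl fun x _ => by rw [hinv n x]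
    rw [Finset.sum_congr rfl e1, Finset.sum_const, smul_eq_zero] at h2
    exact (sub_eq_zero.1 (h2.resolve_left
      (Finset.card_ne_zero.2 ⟨l, mem_orb_self P l⟩))).symm
  intro x₀
  by_cases hx0 : x₀ = 1
  · rw [hx0, h1]
  have : Fintype (↥(P : Subgroup G) →* ℂˣ) :=
    Fintype.ofFinite _
  have hdual : ∀ y : (P : Subgroup G), ∑ l : ↥(P : Subgroup G) →* ℂˣ, (l y : ℂ) =
      if y = 1 then (Nat.card (P : Subgroup G) : ℂ) else 0 := by
    intro y
    split_ifs with h
    · subst h
      simp only [map_one, Units.val_one, Finset.sum_const, Finset.card_univ, nsmul_eq_mul, mul_one,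
        ← Nat.card_eq_fintype_card, CommGroup.card_monoidHom_of_hasEnoughRootsOfUnity]
    · obtain ⟨φ, hφ⟩ :=
        CommGroup.exists_apply_ne_one_of_hasEnoughRootsOfUnity (P : Subgroup G) ℂ h
      have key : (φ y : ℂ) * ∑ l : ↥(P : Subgroup G) →* ℂˣ, (l y : ℂ) =
          ∑ l : ↥(P : Subgroup G) →* ℂˣ, (l y : ℂ) := by
        rw [Finset.mul_sum]
        exact Fintype.sum_equiv (Equiv.mulLeft φ) _ _ fun l => by simp
      rcases eq_or_ne (∑ l : ↥(P : Subgroup G) →* ℂˣ, (l y : ℂ)) 0 with h0 | h0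
      · exact h0
      · exact absurd (Units.ext ((mul_eq_right₀ h0).1 key)) hφ
  have h2 : ∑ l : ↥(P : Subgroup G) →* ℂˣ, (l x₀⁻¹ : ℂ) * F l =
      (Nat.card (P : Subgroup G) : ℂ) * D x₀ := by
    simp only [hF, Finset.mul_sum, ← mul_assoc, ← Units.val_mul, ← map_mul]
    rw [Finset.sum_comm, Finset.sum_eq_single x₀]
    · rw [← Finset.sum_mul, hdual, if_pos (inv_mul_cancel x₀)]
    · intro x _ hx
      rw [← Finset.sum_mul, hdual, if_neg fun h => hx (inv_mul_eq_one.1 h).symm, zero_mul]
    · exact fun h => absurd (Finset.mem_univ _) h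
  rw [Finset.sum_congr rfl fun l _ => by rw [hconst l], ← Finset.sum_mul, hdual,
    if_neg fun h => hx0 (inv_eq_one.1 h), zero_mul] at h2
  exact (mul_eq_zero.1 h2.symm).resolve_left (Nat.cast_ne_zero.2 Nat.card_pos.ne')

end Cfsg.Agent.BlockThms.AbelianTI
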