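import Mathlib
import Cfsg.Agent.BlockThms.AbelianTI.Theta
import Cfsg.Agent.BlockThms.AbelianTI.Combin
import Cfsg.Agent.BlockThms.DefectZero
import Cfsg.Agent.Char.Integral

/-!
# The exceptional characters of the principal block
-/

set_option autoImplicit false

namespace Cfsg.Agent.BlockThms.AbelianTI

open scoped ComplexConjugate
open Cfsg.Agent Cfsg.Agent.Blocks Cfsg.Agent.BlockThms.OrderP

universe u

variable {G : Type u} [Group G] [Fintype G] {p : ℕ}

/-- The principal block: `X` with constant values, `Y` indexed by the orbits through `ζ`. -/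
structure Exceptional (M : Ideal Cfsg.AlgInt) (P : Sylow p G) (e : ℕ)
    (X Y : Finset (Cfsg.IrrCharacter G)) (a : Cfsg.IrrCharacter G → ℤ) (d δ : ℤ)
    (ζ : (↥(P : Subgroup G) →* ℂˣ) → Cfsg.IrrCharacter G) : Prop where
  disj : Disjoint X Y
  mem : ∀ χ, χ ∈ Cfsg.principalBlock M G ↔ χ ∈ X ∨ χ ∈ Y
  card_mul : Y.card * e + 1 = Nat.card (P : Subgroup G)
  triv_mem : triv G ∈ X
  a_triv : a (triv G) = 1
  sign : δ = 1 ∨ δ = -1
  a_ne : ∀ χ ∈ X, a χ ≠ 0
  valX : ∀ χ ∈ X, ∀ (g : G) (x : (P : Subgroup G)), x ≠ 1 → pPartOf p g = x →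
    (χ : G → ℂ) g = (a χ : ℂ)
  zeta_mem : ∀ l, l ≠ 1 → ζ l ∈ Y
  zeta_surj : ∀ η ∈ Y, ∃ l, l ≠ 1 ∧ ζ l = η
  zeta_eq : ∀ l k, l ≠ 1 → k ≠ 1 → (ζ l = ζ k ↔ orb P l = orb P k)
  valY : ∀ l, l ≠ 1 → ∀ (g : G) (x : (P : Subgroup G)), x ≠ 1 → pPartOf p g = x →
    (ζ l : G → ℂ) g = (d : ℂ) + (δ : ℂ) * ∑ k ∈ orb P l, (k x : ℂ)
  norm : (d - δ) ^ 2 + ((Y.card : ℤ) - 1) * d ^ 2 + ∑ χ ∈ X, a χ ^ 2 = (e : ℤ) + 1
  regular : ∀ η ∈ Y, ∀ η' ∈ Y, ∀ g : G, ¬ p ∣ orderOf g → (η : G → ℂ) g = (η' : G → ℂ) g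
  relation : ∀ η ∈ Y, ∀ g : G, ¬ p ∣ orderOf g →
    ((Y.card : ℂ) * (d : ℂ) - (δ : ℂ)) * (η : G → ℂ) g +
      ∑ χ ∈ X, (a χ : ℂ) * (χ : G → ℂ) g = 0
  expansion : ∀ l, l ≠ 1 → ∀ f : Cfsg.IrrCharacter G → ℂ,
    ∑ χ : Cfsg.IrrCharacter G, Cfsg.classInner (lift P (theta P l)) (χ : G → ℂ) * f χ =
      ∑ χ ∈ X, (a χ : ℂ) * f χ + (d : ℂ) * ∑ η ∈ Y, f η - (δ : ℂ) * f (ζ l)

variable [Fact p.Prime] {P : Sylow p G} {e : ℕ} (hS : Setup P e) {M : Ideal Cfsg.AlgInt}
include hS

theorem Setup.card_dual :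
    Nat.card (↥(P : Subgroup G) →* ℂˣ) = Nat.card (P : Subgroup G) := by
  let : CommGroup (P : Subgroup G) :=
    { (inferInstance : Group (P : Subgroup G)) with
      mul_comm := fun a b => Subtype.ext (hS.mul_comm' a.2 b.2) }
  exact CommGroup.card_monoidHom_of_hasEnoughRootsOfUnity (P : Subgroup G) ℂ

theorem Setup.finite_dual : Finite (↥(P : Subgroup G) →* ℂˣ) :=
  Nat.finite_of_card_ne_zero (by rw [hS.card_dual]; exact Nat.card_pos.ne')

omit hS in
/-- A member of the principal block does not vanish on `P ∖ 1`. -/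
theorem exists_apply_ne_zero (hM : Cfsg.IsPModular p M) (hP1 : Nat.card (P : Subgroup G) ≠ 1)
    {χ : Cfsg.IrrCharacter G} (hχ : χ ∈ Cfsg.principalBlock M G) :
    ¬ ∀ x : (P : Subgroup G), x ≠ 1 → (χ : G → ℂ) x = 0 := by
  classical
  intro h
  have hp : p.Prime := Fact.out
  have hχc := Char.IsIrr.isCharacter χ.2
  obtain ⟨i, hi⟩ := Char.classInner_isCharacter_eq_natCast
    (Char.isCharacter_res (P : Subgroup G) hχc) (Char.isCharacter_one (G := (P : Subgroup G)))
  simp only [Cfsg.classInner, map_one, mul_one] at hi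
  rw [inv_mul_eq_iff_eq_mul₀ (Nat.cast_ne_zero.2 Nat.card_pos.ne'),
    Finset.sum_eq_single (1 : (P : Subgroup G)) (fun x _ hx => h x hx)
      (fun h' => absurd (Finset.mem_univ _) h'), OneMemClass.coe_one, ← charDegree_cast hχc] at hi
  have hdeg : Nat.card (P : Subgroup G) ∣ Cfsg.charDegree (χ : G → ℂ) := ⟨i, by exact_mod_cast hi⟩
  have hdG : Cfsg.charDegree (χ : G → ℂ) ∣ Nat.card G :=
    Char.IsIrr.degree_dvd_card χ.2 (charDegree_cast hχc).symm
  have hns : ¬ p ∣ Nat.card G / Cfsg.charDegree (χ : G → ℂ) := by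
    intro hd
    have h2 : p ^ ((Nat.card G).factorization p + 1) ∣ Nat.card G := by
      rw [pow_succ, ← P.card_eq_multiplicity]
      calc Nat.card (P : Subgroup G) * p ∣
            Cfsg.charDegree (χ : G → ℂ) * (Nat.card G / Cfsg.charDegree (χ : G → ℂ)) :=
            mul_dvd_mul hdeg hd
        _ = Nat.card G := Nat.mul_div_cancel' hdG
    have h3 := (hp.pow_dvd_iff_le_factorization Nat.card_pos.ne').1 h2
    omega
  have hsing := BlockThms.blockOf_eq_singleton hM χ hns
  have h1 := triv_mem_principalBlock (G := G) hM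
  rw [IsPBlock.eq_blockOf hM (isPBlock_principalBlock M) hχ, hsing, Set.mem_singleton_iff] at h1
  rw [← h1, charDegree_eq (n := 1) (by simp [triv]), Nat.dvd_one] at hdeg
  exact hP1 hdeg

/-- The principal block. -/
theorem Setup.exceptional (hM : Cfsg.IsPModular p M) (he : e + 1 < Nat.card (P : Subgroup G)) :
    ∃ X Y a d δ ζ, Exceptional M P e X Y a d δ ζ := by
  classical
  have hP1 : Nat.card (P : Subgroup G) ≠ 1 := by omega
  have := hS.finite_dual
  have : Fintype (↥(P : Subgroup G) →* ℂˣ) := Fintype.ofFinite _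
  set s := (Finset.univ : Finset (↥(P : Subgroup G) →* ℂˣ)).erase 1 with hs
  set orbs := s.image (orb P) with horbs
  have horb : ∀ l, l ≠ 1 → orb P l ∈ orbs := fun l hl =>
    Finset.mem_image.2 ⟨l, Finset.mem_erase.2 ⟨hl, Finset.mem_univ l⟩, rfl⟩
  have hnum : orbs.card * e + 1 = Nat.card (P : Subgroup G) := by
    have h1 := Finset.card_eq_sum_card_fiberwise (s := s) (t := orbs) (f := orb P)
      fun l hl => Finset.mem_image_of_mem _ hl
    have h2 : ∀ O ∈ orbs, (s.filter fun k => orb P k = O).card = e := by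
      intro O hO
      obtain ⟨l, hl, rfl⟩ := Finset.mem_image.1 hO
      have hl1 := (Finset.mem_erase.1 hl).1
      rw [← hS.card_orb hl1]
      refine congrArg Finset.card (Finset.ext fun k => ?_)
      rw [Finset.mem_filter]
      refine ⟨fun h => h.2 ▸ mem_orb_self P k, fun h => ⟨?_, orb_eq_of_mem h⟩⟩
      exact Finset.mem_erase.2 ⟨fun hk => one_notMem_orb hl1 (hk ▸ h), Finset.mem_univ k⟩
    rw [Finset.sum_congr rfl h2, Finset.sum_const, smul_eq_mul, hs,
      Finset.card_erase_of_mem (Finset.mem_univ _), Finset.card_univ, ← Nat.card_eq_fintype_card,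
      hS.card_dual] at h1
    omega
  have hκ : 1 < Fintype.card orbs := by
    rw [Fintype.card_coe]
    by_contra h
    have : orbs.card * e ≤ 1 * e := Nat.mul_le_mul_right e (not_lt.1 h)
    omega
  have hrep : ∀ O : orbs, ∃ l, l ≠ 1 ∧ orb P l = (O : Finset (↥(P : Subgroup G) →* ℂˣ)) := fun O => by
    obtain ⟨l, hl, hlO⟩ := Finset.mem_image.1 O.2
    exact ⟨l, (Finset.mem_erase.1 hl).1, hlO⟩
  choose L hL1 hLO using hrep
  let idx : ∀ l : ↥(P : Subgroup G) →* ℂˣ, l ≠ 1 → orbs := fun l hl => ⟨orb P l, horb l hl⟩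
  have htheta : ∀ l (hl : l ≠ 1), theta P l = theta P (L (idx l hl)) := fun l hl =>
    theta_eq_of_mem (by rw [hLO]; exact mem_orb_self P l)
  set φ : orbs → G → ℂ := fun O => theta P (L O) with hφdef
  have hφ : ∀ O, Adm P (φ O) := fun O => adm_theta P (L O)
  have hclass : ∀ O, Cfsg.IsClassFunction G (lift P (φ O)) := fun O => hS.lift_class (hφ O)
  choose m hm hmexp hmsq using fun O =>
    Char.IsGen.exists_mult (hS.isGeneralized_lift (hφ O) (isGeneralized_theta P (L O)))
  set N : ℂ := (e : ℂ) * (Nat.card (P : Subgroup G) : ℂ) with hN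
  have hN0 : N ≠ 0 :=
    mul_ne_zero (Nat.cast_ne_zero.2 hS.e_pos.ne') (Nat.cast_ne_zero.2 Nat.card_pos.ne')
  have hinn : ∀ O (χ : Cfsg.IrrCharacter G), N * (m O χ : ℂ) =
      ∑ x : (P : Subgroup G), φ O x * conj (avg p (χ : G → ℂ) x) := fun O χ => by
    rw [← hm, hS.classInner_lift (hφ O) (Char.isClassFunction_of_isIrr χ.2)]
  have hsumth : ∀ O, ∑ x : (P : Subgroup G), φ O x = N := fun O => by
    rw [hN, hφdef, sum_theta P (hL1 O), hS.card_orb (hL1 O), mul_comm]
  have hth2 : ∀ i j, ∑ x : (P : Subgroup G), φ i x * conj (φ j x) =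
      N * ((e : ℂ) + if i = j then 1 else 0) := fun i j => by
    simp only [hφdef, hN]
    rw [sum_theta_mul_conj P (hL1 i) (hL1 j), hS.card_orb (hL1 i), hS.card_orb (hL1 j)]
    have : orb P (L i) = orb P (L j) ↔ i = j := by rw [hLO, hLO, Subtype.coe_inj]
    simp only [this]
    split_ifs <;> ring
  set B := Cfsg.principalBlock M G with hB
  set S := (Set.toFinite B).toFinset with hSdef
  have hmemS : ∀ χ, χ ∈ S ↔ χ ∈ B := fun χ => (Set.toFinite B).mem_toFinset
  have hout : ∀ O χ, χ ∉ S → m O χ = 0 := by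
    intro O χ hχ
    have h := hinn O χ
    rw [Finset.sum_eq_zero fun x _ => by
      rw [hS.avg_eq_zero hM x.2 fun h' => hχ ((hmemS χ).2 h'), map_zero, mul_zero]] at h
    exact Int.cast_eq_zero.1 ((mul_eq_zero.1 h).resolve_left hN0)
  have hfull : ∀ O (f : Cfsg.IrrCharacter G → ℂ),
      ∑ χ : Cfsg.IrrCharacter G, (m O χ : ℂ) * f χ = ∑ χ ∈ S, (m O χ : ℂ) * f χ := fun O f =>
    (Finset.sum_subset (Finset.subset_univ S) fun χ _ hχ => by rw [hout O χ hχ]; simp).symm
  -- a member of the block is determined on `P` by its multiplicities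
  have hdet : ∀ χ ∈ S, ∀ Φ : ↥(P : Subgroup G) → ℂ,
      (∀ (n : Subgroup.normalizer (P : Set G)) x, Φ (conjP P n x) = Φ x) →
      (∀ O, ∑ x : (P : Subgroup G), φ O x * conj (Φ x) = N * (m O χ : ℂ)) →
      ∀ x : (P : Subgroup G), x ≠ 1 → (χ : G → ℂ) x = Φ x := by
    intro χ hχ Φ hΦ hmom
    have hχB := (hmemS χ).1 hχ
    set D : ↥(P : Subgroup G) → ℂ :=
      fun x => if x = 1 then 0 else conj ((χ : G → ℂ) x) - conj (Φ x) with hD
    have hz := hS.eq_zero_of_moments (D := D) (if_pos rfl) (fun n x => ?_) fun l hl => ?_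
    · intro x hx
      have h := hz x
      simp only [hD, if_neg hx, sub_eq_zero] at h
      exact star_injective h
    · by_cases hx : x = 1
      · rw [hx, map_one]
      have hne : conjP P n x ≠ 1 := fun h => hx (Subtype.ext (by
        have h' : (n : G) * (x : G) * (n : G)⁻¹ = 1 := congrArg Subtype.val h
        exact conj_eq_one_iff.1 h'))
      simp only [hD, if_neg hx, if_neg hne, hΦ n x]
      congr 2
      exact Char.isClassFunction_of_isIrr χ.2 x n
    · rw [htheta l hl]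
      set O := idx l hl
      have h2 : ∀ x : (P : Subgroup G), φ O x * D x =
          φ O x * conj (avg p (χ : G → ℂ) x) - φ O x * conj (Φ x) := by
        intro x
        by_cases hx : x = 1
        · rw [hx, OneMemClass.coe_one, (hφ O).one]; simp
        · simp only [hD, if_neg hx]
          rw [← hS.apply_eq_avg hM x.2 (fun h => hx (Subtype.ext h)) hχB]
          ring
      rw [show (∑ x : (P : Subgroup G), theta P (L O) x * D x) = ∑ x : (P : Subgroup G), φ O x * D x
        from rfl, Finset.sum_congr rfl fun x _ => h2 x, Finset.sum_sub_distrib, ← hinn, hmom,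
        sub_self]
  have hne : ∀ χ ∈ S, ∃ O, m O χ ≠ 0 := by
    intro χ hχ
    by_contra h
    push Not at h
    exact exists_apply_ne_zero hM hP1 ((hmemS χ).1 hχ)
      (hdet χ hχ (fun _ => 0) (fun _ _ => rfl) fun O => by simp [h O])
  have hinner : ∀ i j, ∑ χ ∈ S, m i χ * m j χ = (e : ℤ) + if i = j then 1 else 0 := by
    intro i j
    have h := hS.classInner_lift_lift (hφ i) (hφ j)
    rw [hth2, Char.classInner_eq_sum (hclass i)] at h
    have h' := mul_left_cancel₀ hN0 h
    have e1 : ∀ χ : Cfsg.IrrCharacter G,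
        Cfsg.classInner (χ : G → ℂ) (lift P (φ j)) = (m j χ : ℂ) := fun χ => by
      rw [← Char.classInner_conj_symm, hm j χ]; simp
    simp only [hm i, e1, hfull i] at h'
    split_ifs at h' ⊢ <;> exact_mod_cast h'
  have hregsum : ∀ O, ∀ g : G, ¬ p ∣ orderOf g →
      ∑ χ ∈ S, (m O χ : ℂ) * (χ : G → ℂ) g = 0 := by
    intro O g hg
    rw [← hfull O, ← hS.lift_regular (hφ O) hg, ← Invol.apply_eq_sum (hclass O) g]
    simp only [hm O]
  have hvan : ∀ O, ∑ χ ∈ S, m O χ * (Cfsg.charDegree (χ : G → ℂ) : ℤ) = 0 := by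
    intro O
    have h := hregsum O 1 (by rw [orderOf_one, Nat.dvd_one]; exact (Fact.out : p.Prime).ne_one)
    simp only [← charDegree_cast (Char.IsIrr.isCharacter (Subtype.property _))] at h
    exact_mod_cast h
  have htriv : ∀ O, m O (triv G) = 1 := by
    intro O
    have h := hinn O (triv G)
    have hav : ∀ x : (P : Subgroup G), avg p ((triv G : Cfsg.IrrCharacter G) : G → ℂ) x = 1 := by
      intro x
      rw [avg, Finset.sum_congr rfl (g := fun _ => (1 : ℂ)) fun g _ => by simp [triv],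
        Finset.sum_const, nsmul_eq_mul, mul_one, inv_mul_cancel₀
          (Nat.cast_ne_zero.2 (Finset.card_ne_zero.2 ⟨_, self_mem_fiber x.2⟩))]
    simp only [hav, map_one, mul_one, hsumth] at h
    exact Int.cast_eq_one.1 ((mul_right_eq_self₀.1 h).resolve_right hN0)
  obtain ⟨O₀⟩ : Nonempty orbs := Fintype.card_pos_iff.1 (by omega)
  obtain ⟨v, a, σ, d, hv, hvS, hσ, hma, had, hnorm⟩ :=
    exists_exceptional (e := (e : ℤ)) hκ S m (fun χ => Cfsg.charDegree (χ : G → ℂ))
      (fun χ _ => charDegree_pos χ.2) (fun i j => by convert hinner i j) hvan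
  set Y := Finset.univ.image v with hY
  set X := S \ Y with hX
  have hYS : Y ⊆ S := fun χ hχ => by
    obtain ⟨O, -, rfl⟩ := Finset.mem_image.1 hχ
    exact hvS O
  have hYcard : Y.card = orbs.card := by
    rw [hY, Finset.card_image_of_injective _ hv, Finset.card_univ, Fintype.card_coe]
  have hXv : ∀ χ ∈ X, ∀ O, m O χ = a χ := fun χ hχ O => by
    obtain ⟨h1, h2⟩ := Finset.mem_sdiff.1 hχ
    rw [hma O χ h1, if_neg fun h : χ = v O => h2 (h ▸ Finset.mem_image_of_mem v (Finset.mem_univ O)),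
      add_zero]
  have htrivY : triv G ∉ Y := by
    intro h
    obtain ⟨O, -, hO⟩ := Finset.mem_image.1 h
    obtain ⟨O', hO'⟩ := Fintype.exists_ne_of_one_lt_card hκ O
    have htS := hvS O
    rw [hO] at htS
    have h1 := hma O _ htS
    have h2 := hma O' _ htS
    rw [htriv, if_pos hO.symm] at h1
    rw [htriv, if_neg fun h : triv G = v O' => hO' (hv (hO.trans h)).symm] at h2
    rcases hσ with h | h <;> omega
  have htrivX : triv G ∈ X :=
    Finset.mem_sdiff.2 ⟨(hmemS _).2 (triv_mem_principalBlock hM), htrivY⟩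
  let ζ : (↥(P : Subgroup G) →* ℂˣ) → Cfsg.IrrCharacter G :=
    fun l => if hl : l ≠ 1 then v (idx l hl) else triv G
  have hζ : ∀ l (hl : l ≠ 1), ζ l = v (idx l hl) := fun l hl => dif_pos hl
  have hexp : ∀ O (f : Cfsg.IrrCharacter G → ℂ), ∑ χ ∈ S, (m O χ : ℂ) * f χ =
      ∑ χ ∈ X, (a χ : ℂ) * f χ + (d : ℂ) * ∑ η ∈ Y, f η + (σ : ℂ) * f (v O) := by
    intro O f
    rw [← Finset.sum_sdiff hYS, ← hX, Finset.sum_congr rfl fun χ hχ => by rw [hXv χ hχ O],
      add_assoc, hY, Finset.sum_image (fun i _ j _ h => hv h),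
      Finset.sum_image (fun i _ j _ h => hv h), Finset.mul_sum]
    congr 1
    rw [Finset.sum_congr rfl (g := fun i => (d : ℂ) * f (v i) +
      if i = O then (σ : ℂ) * f (v i) else 0) fun i _ => by
        rw [hma O (v i) (hvS i), had i]
        simp only [hv.eq_iff]
        split_ifs <;> push_cast <;> ring,
      Finset.sum_add_distrib, Finset.sum_ite_eq', if_pos (Finset.mem_univ O)]
  have hregeq : ∀ η ∈ Y, ∀ η' ∈ Y, ∀ g : G, ¬ p ∣ orderOf g →
      (η : G → ℂ) g = (η' : G → ℂ) g := by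
    intro η hη η' hη' g hg
    obtain ⟨i, -, rfl⟩ := Finset.mem_image.1 hη
    obtain ⟨j, -, rfl⟩ := Finset.mem_image.1 hη'
    have h1 := hregsum i g hg
    have h2 := hregsum j g hg
    rw [hexp i fun χ => (χ : G → ℂ) g] at h1
    rw [hexp j fun χ => (χ : G → ℂ) g] at h2
    have h3 : (σ : ℂ) * ((v i : G → ℂ) g - (v j : G → ℂ) g) = 0 := by linear_combination h1 - h2
    have hσ0 : (σ : ℂ) ≠ 0 := by rcases hσ with rfl | rfl <;> norm_num
    exact sub_eq_zero.1 ((mul_eq_zero.1 h3).resolve_left hσ0)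
  refine ⟨X, Y, a, d, -σ, ζ, ?_⟩
  refine
    { disj := Finset.sdiff_disjoint
      mem := fun χ => ?_
      card_mul := by rw [hYcard, hnum]
      triv_mem := htrivX
      a_triv := ?_
      sign := by rcases hσ with h | h <;> simp [h]
      a_ne := fun χ hχ h0 => ?_
      valX := fun χ hχ g x hx hg => ?_
      zeta_mem := fun l hl => by rw [hζ l hl]; exact Finset.mem_image_of_mem v (Finset.mem_univ _)
      zeta_surj := fun η hη => ?_
      zeta_eq := fun l k hl hk => by rw [hζ l hl, hζ k hk, hv.eq_iff, Subtype.ext_iff]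
      valY := fun l hl g x hx hg => ?_
      norm := ?_
      regular := hregeq
      relation := fun η hη g hg => ?_
      expansion := fun l hl f => ?_ }
  · rw [← hmemS χ, hX, Finset.mem_sdiff]
    by_cases h : χ ∈ Y
    · simp [h, hYS h]
    · simp [h]
  · have := hXv _ htrivX O₀
    rw [← this, htriv]
  · obtain ⟨O, hO⟩ := hne χ (Finset.mem_sdiff.1 hχ).1
    exact hO (by rw [hXv χ hχ O, h0])
  · have hS' := (Finset.mem_sdiff.1 hχ).1
    rw [hS.apply_mul hM x.2 (fun h => hx (Subtype.ext h)) ((hmemS χ).1 hS') hg]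
    exact hdet χ hS' (fun _ => (a χ : ℂ)) (fun _ _ => rfl) (fun O => by
      rw [← Finset.sum_mul, hsumth, hXv χ hχ O, map_intCast]) x hx
  · obtain ⟨O, -, rfl⟩ := Finset.mem_image.1 hη
    refine ⟨L O, hL1 O, ?_⟩
    rw [hζ _ (hL1 O)]
    exact congrArg v (Subtype.ext (hLO O))
  · rw [hζ l hl]
    set j := idx l hl with hj
    rw [hS.apply_mul hM x.2 (fun h => hx (Subtype.ext h)) ((hmemS _).1 (hvS j)) hg,
      hdet _ (hvS j) (fun y => (d : ℂ) + ((-σ : ℤ) : ℂ) * ((e : ℂ) - φ j y)) (fun n y => ?_)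
        (fun O => ?_) x hx]
    · simp only [hφdef]
      rw [← htheta l hl, theta_coe, Finset.sum_sub_distrib, Finset.sum_const, nsmul_eq_mul,
        hS.card_orb hl]
      ring
    · have := (hφ j).inv n n.2 y y.2
      simp only [show ((conjP P n y : (P : Subgroup G)) : G) = (n : G) * (y : G) * (n : G)⁻¹ from rfl,
        this]
    · have e1 : ∀ y : (P : Subgroup G), φ O y *
          conj ((d : ℂ) + ((-σ : ℤ) : ℂ) * ((e : ℂ) - φ j y)) =
          φ O y * ((d : ℂ) - (σ : ℂ) * e) + (σ : ℂ) * (φ O y * conj (φ j y)) := fun y => by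
        simp only [map_add, map_mul, map_sub, map_neg, map_intCast, map_natCast, Int.cast_neg]
        ring
      rw [Finset.sum_congr rfl fun y _ => e1 y, Finset.sum_add_distrib, ← Finset.sum_mul,
        ← Finset.mul_sum, hth2, hsumth, hma O (v j) (hvS j), had]
      simp only [hv.eq_iff, eq_comm (a := j)]
      split_ifs <;> push_cast <;> ring
  · rw [hYcard, show d - -σ = d + σ by ring, ← Fintype.card_coe orbs, hX, hY]
    convert hnorm
  · obtain ⟨O, -, rfl⟩ := Finset.mem_image.1 hη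
    have h := hregsum O g hg
    rw [hexp O fun χ => (χ : G → ℂ) g, Finset.sum_congr rfl (g := fun _ => (v O : G → ℂ) g)
      fun η' hη' => hregeq η' hη' _ hη g hg, Finset.sum_const, nsmul_eq_mul] at h
    push_cast
    linear_combination h
  · rw [htheta l hl, hζ l hl, show theta P (L (idx l hl)) = φ (idx l hl) from rfl]
    simp only [hm, hfull]
    rw [hexp]
    push_cast
    ring

end Cfsg.Agent.BlockThms.AbelianTI
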