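import Mathlib
import Cfsg.Agent.BlockThms.AbelianTI.Exceptional

/-!
# The exceptional characters in the form of the statements
-/

set_option autoImplicit false

namespace Cfsg.Agent.BlockThms.AbelianTI

open scoped ComplexConjugate
open Cfsg.Agent Cfsg.Agent.Blocks Cfsg.Agent.BlockThms.OrderP

universe u

variable {G : Type u} [Group G] [Fintype G] {p : ℕ} {P : Sylow p G}

/-- The orbit as a set of conjugates. -/
theorem coe_orb (P : Sylow p G) (ψ : ↥(P : Subgroup G) →* ℂˣ) :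
    ↑(orb P ψ) = {ψ' : ↥(P : Subgroup G) →* ℂˣ | ∃ n : G,
      n ∈ Subgroup.normalizer ((P : Subgroup G) : Set G) ∧
        ∀ w w' : ↥(P : Subgroup G), (w' : G) = n * w * n⁻¹ → ψ' w' = ψ w} := by
  ext k
  rw [Finset.mem_coe, mem_orb, Set.mem_setOf_eq]
  constructor
  · rintro ⟨n, rfl⟩
    refine ⟨(n : G)⁻¹, inv_mem n.2, fun w w' h => ?_⟩
    rw [MonoidHom.comp_apply]
    refine congrArg ψ (Subtype.ext ?_)
    show (n : G) * (w' : G) * (n : G)⁻¹ = w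
    rw [h]
    group
  · rintro ⟨n, hn, h⟩
    refine ⟨⟨n⁻¹, inv_mem hn⟩, MonoidHom.ext fun w' => ?_⟩
    rw [MonoidHom.comp_apply]
    refine (h _ w' ?_).symm
    show (w' : G) = n * (n⁻¹ * (w' : G) * n⁻¹⁻¹) * n⁻¹
    group

theorem orb_eq_of_conj (P : Sylow p G) {ψ ψ' : ↥(P : Subgroup G) →* ℂˣ}
    (h : ∃ n : G, n ∈ Subgroup.normalizer ((P : Subgroup G) : Set G) ∧
        ∀ w w' : ↥(P : Subgroup G), (w' : G) = n * w * n⁻¹ → ψ' w' = ψ w) :
    orb P ψ' = orb P ψ :=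
  orb_eq_of_mem (by
    show ψ' ∈ (orb P ψ : Set _)
    rw [coe_orb]
    exact h)

variable [Fact p.Prime] {e : ℕ} {M : Ideal Cfsg.AlgInt}
  {X Y : Finset (Cfsg.IrrCharacter G)} {a : Cfsg.IrrCharacter G → ℤ} {d δ : ℤ}
  {ζ : (↥(P : Subgroup G) →* ℂˣ) → Cfsg.IrrCharacter G}
  (h : Exceptional M P e X Y a d δ ζ)
include h

theorem Exceptional.block_eq : Cfsg.principalBlock M G = (↑X : Set _) ∪ ↑Y :=
  Set.ext fun χ => by simpa using h.mem χ

theorem Exceptional.card_Y (he : 0 < e) :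
    Y.card = (Nat.card (P : Subgroup G) - 1) / e := by
  rw [← h.card_mul, Nat.add_sub_cancel, Nat.mul_div_cancel _ he]

theorem Exceptional.valX' {χ : Cfsg.IrrCharacter G} (hχ : χ ∈ X) {z y : G}
    (hz : Cfsg.IsPPart p z y) (hy : y ∈ (P : Subgroup G)) (hy1 : y ≠ 1) :
    (χ : G → ℂ) z = (a χ : ℂ) :=
  h.valX χ hχ z ⟨y, hy⟩ (fun e => hy1 (congrArg Subtype.val e))
    (eq_pPartOf (Fact.out : p.Prime) z hz).symm

theorem Exceptional.valY' {ψ : ↥(P : Subgroup G) →* ℂˣ} (hψ : ψ ≠ 1) {z : G}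
    {y : ↥(P : Subgroup G)} (hz : Cfsg.IsPPart p z (y : G)) (hy1 : (y : G) ≠ 1) :
    (ζ ψ : G → ℂ) z = (d : ℂ) + (δ : ℂ) * ∑ᶠ ψ' ∈ {ψ' : ↥(P : Subgroup G) →* ℂˣ | ∃ n : G,
      n ∈ Subgroup.normalizer ((P : Subgroup G) : Set G) ∧
        ∀ w w' : ↥(P : Subgroup G), (w' : G) = n * w * n⁻¹ → ψ' w' = ψ w},
      ((ψ' y : ℂˣ) : ℂ) := by
  rw [← coe_orb, finsum_mem_coe_finset]
  exact h.valY ψ hψ z y (fun e => hy1 (congrArg Subtype.val e))
    (eq_pPartOf (Fact.out : p.Prime) z hz).symm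

theorem Exceptional.zeta_congr {ψ ψ' : ↥(P : Subgroup G) →* ℂˣ} (hψ : ψ ≠ 1)
    (hc : ∃ n : G, n ∈ Subgroup.normalizer ((P : Subgroup G) : Set G) ∧
        ∀ w w' : ↥(P : Subgroup G), (w' : G) = n * w * n⁻¹ → ψ' w' = ψ w) :
    ζ ψ' = ζ ψ := by
  have e1 := orb_eq_of_conj P hc
  refine (h.zeta_eq _ _ (fun h1 => ?_) hψ).2 e1
  refine one_notMem_orb hψ ?_
  rw [← e1, h1]
  exact mem_orb_self P 1

theorem Exceptional.card_X_le (hY : 2 ≤ Y.card) : X.card ≤ e := by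
  have h1 : (X.card : ℤ) ≤ ∑ χ ∈ X, a χ ^ 2 := by
    rw [Finset.card_eq_sum_ones, Nat.cast_sum]
    exact Finset.sum_le_sum fun χ hχ => by
      have := sq_pos_of_ne_zero (h.a_ne χ hχ)
      push_cast
      omega
  have h2 : 1 ≤ (d - δ) ^ 2 + ((Y.card : ℤ) - 1) * d ^ 2 := by
    have h3 : (1 : ℤ) ≤ (Y.card : ℤ) - 1 := by omega
    by_cases hd : d = 0
    · subst hd
      rcases h.sign with h' | h' <;> subst h' <;> norm_num
    · have := sq_pos_of_ne_zero hd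
      nlinarith [sq_nonneg (d - δ)]
  have := h.norm
  omega

end Cfsg.Agent.BlockThms.AbelianTI
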