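import Mathlib
import Cfsg.Agent.BlockThms.AbelianTI.Interface
import Cfsg.Agent.Char.Clifford

/-!
# Characters of small degree when all nontrivial elements of `P` have the centralizer of `P`
-/

set_option autoImplicit false

namespace Cfsg.Agent.BlockThms.AbelianTI

open scoped ComplexConjugate
open Cfsg.Agent Cfsg.Agent.Blocks Cfsg.Agent.BlockThms.OrderP

universe u

variable {G : Type u} [Group G]

/-- A central element acts in an irreducible character through a linear character. -/
theorem apply_mul_central [Fintype G] {χ : G → ℂ} (hχ : Cfsg.IsIrrCharacter G χ) {u : G}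
    (hu : ∀ a, a * u * a⁻¹ = u) (g : G) : χ 1 * χ (u * g) = χ u * χ g := by
  have h := CharArith.classMult hχ u g
  simp only [hu, Finset.sum_const, Finset.card_univ, ← Nat.card_eq_fintype_card, nsmul_eq_mul] at h
  refine mul_left_cancel₀ (Char.card_ne_zero (G := G)) ?_
  linear_combination h

variable {p : ℕ} {P : Sylow p G}

theorem setup_of_star [Fintype G] [Fact p.Prime]
    (hstar : ∀ x ∈ (P : Subgroup G), x ≠ 1 →
      Subgroup.centralizer ({x} : Set G) = Subgroup.centralizer ((P : Subgroup G) : Set G)) :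
    Setup P ((Subgroup.centralizer (P : Set G)).relIndex (Subgroup.normalizer (P : Set G))) := by
  refine ⟨?_, rfl, fun y hy hy1 => ?_⟩
  · have hle : ∀ u ∈ (P : Subgroup G), ∀ v ∈ (P : Subgroup G), u * v = v * u := by
      intro u hu v hv
      by_cases hP : (P : Subgroup G) = ⊥
      · rw [hP, Subgroup.mem_bot] at hu hv
        rw [hu, hv]
      have := (Subgroup.nontrivial_iff_ne_bot _).2 hP
      have := P.isPGroup'.center_nontrivial
      obtain ⟨z, hz⟩ := exists_ne (1 : Subgroup.center (P : Subgroup G))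
      have hz1 : ((z : (P : Subgroup G)) : G) ≠ 1 := fun h => hz (Subtype.ext (Subtype.ext h))
      have hzC : ∀ w ∈ (P : Subgroup G), w ∈ Subgroup.centralizer (P : Set G) := by
        intro w hw
        rw [← show Subgroup.centralizer ({((z : (P : Subgroup G)) : G)} : Set G) =
          Subgroup.centralizer (P : Set G) from hstar _ (z : (P : Subgroup G)).2 hz1,
          Subgroup.mem_centralizer_singleton_iff]
        exact congrArg Subtype.val (Subgroup.mem_center_iff.1 z.2 ⟨w, hw⟩)
      exact (Subgroup.mem_centralizer_iff.1 (hzC v hv) u hu)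
    exact ⟨⟨fun a b => Subtype.ext (hle _ a.2 _ b.2)⟩⟩
  · rw [hstar y hy hy1]
    exact inf_eq_left.2 (Subgroup.centralizer_le_normalizer _)

open scoped Classical in
/-- The centralizer of `P` as a finite set. -/
noncomputable def cset [Fintype G] (P : Sylow p G) : Finset G :=
  Finset.univ.filter (· ∈ Subgroup.centralizer (P : Set G))

theorem mem_cset [Fintype G] {g : G} :
    g ∈ cset P ↔ g ∈ Subgroup.centralizer (P : Set G) := by
  simp [cset]

variable [Fintype G] [Fact p.Prime] {e : ℕ} (hS : Setup P e)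
include hS

/-- A character nontrivial on `P` has at least `e` constituents on the centralizer. -/
theorem Setup.constituents_centralizer {χ : G → ℂ} (hχ : Cfsg.IsCharacter G χ)
    (hP : ¬ ∀ u ∈ (P : Subgroup G), χ u = χ 1) :
    ∃ k : ℕ, e ≤ k ∧ k ≤ Cfsg.charDegree χ ∧
      (Nat.card (Subgroup.centralizer (P : Set G)) : ℝ) * k ≤
        ∑ g ∈ cset P, Complex.normSq (χ g) := by
  classical
  push Not at hP
  obtain ⟨u, hu, huχ⟩ := hP
  set N := Subgroup.normalizer (P : Set G) with hN
  set C' : Subgroup N := (Subgroup.centralizer (P : Set G)).subgroupOf N with hC'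
  have hnorm : C'.Normal := by
    have h := MonoidHom.normal_ker (P : Subgroup G).normalizerMonoidHom
    rw [Subgroup.normalizerMonoidHom_ker] at h
    exact h
  have hle : Subgroup.centralizer (P : Set G) ≤ N := Subgroup.centralizer_le_normalizer _
  have hPC := hS.le_centralizer
  set res : C' → ℂ := fun c => χ ((c : N) : G) with hres
  have hresc : Cfsg.IsCharacter C' res :=
    Char.isCharacter_comp (N.subtype.comp C'.subtype) hχ
  obtain ⟨m, hm, hmexp, hmsq⟩ := Char.IsChar.exists_mult hresc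
  set uC : C' := ⟨⟨u, hle (hPC hu)⟩, Subgroup.mem_subgroupOf.2 (hPC hu)⟩ with huC
  have hexp : ∀ c : C', res c = ∑ ψ : Cfsg.IrrCharacter C', (m ψ : ℂ) * (ψ : C' → ℂ) c := fun c => by
    conv_lhs => rw [hmexp]
    simp [Finset.sum_apply]
  obtain ⟨lam, hlm, hlu⟩ : ∃ lam : Cfsg.IrrCharacter C', m lam ≠ 0 ∧
      (lam : C' → ℂ) uC ≠ (lam : C' → ℂ) 1 := by
    by_contra h
    push Not at h
    refine huχ ?_
    have e1 : res uC = res 1 := by
      rw [hexp, hexp]
      refine Finset.sum_congr rfl fun ψ _ => ?_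
      by_cases h0 : m ψ = 0
      · simp [h0]
      · rw [h ψ h0]
    exact e1
  -- the linear character of `P` inside `lam`
  have hcentral : ∀ v : (P : Subgroup G), ∀ a : C',
      a * ⟨⟨(v : G), hle (hPC v.2)⟩, Subgroup.mem_subgroupOf.2 (hPC v.2)⟩ * a⁻¹ =
        (⟨⟨(v : G), hle (hPC v.2)⟩, Subgroup.mem_subgroupOf.2 (hPC v.2)⟩ : C') := fun v a =>
    Subtype.ext (Subtype.ext (by
      show ((a : N) : G) * (v : G) * ((a : N) : G)⁻¹ = v
      rw [← Subgroup.mem_centralizer_iff.1
        (show ((a : N) : G) ∈ Subgroup.centralizer (P : Set G) from a.2) v v.2, mul_inv_cancel_right]))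
  set inC : ↥(P : Subgroup G) → C' :=
    fun v => ⟨⟨(v : G), hle (hPC v.2)⟩, Subgroup.mem_subgroupOf.2 (hPC v.2)⟩ with hinC
  have hl1 := Char.IsIrr.one_ne_zero lam.2
  let ω : ↥(P : Subgroup G) →* ℂ :=
    { toFun := fun v => (lam : C' → ℂ) (inC v) / (lam : C' → ℂ) 1
      map_one' := by
        rw [show inC 1 = 1 from rfl, div_self hl1]
      map_mul' := fun v w => by
        have h : (lam : C' → ℂ) 1 * (lam : C' → ℂ) (inC v * inC w) =
            (lam : C' → ℂ) (inC v) * (lam : C' → ℂ) (inC w) :=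
          apply_mul_central lam.2 (hcentral v) (inC w)
        rw [show inC (v * w) = inC v * inC w from rfl]
        rw [div_mul_div_comm, ← h]
        field_simp }
  let l : ↥(P : Subgroup G) →* ℂˣ := ω.toHomUnits
  have hl : l ≠ 1 := fun h => hlu (by
    have h1 : ((l ⟨u, hu⟩ : ℂˣ) : ℂ) = 1 := by rw [h]; simp
    rw [MonoidHom.coe_toHomUnits] at h1
    exact (div_eq_one_iff_eq hl1).1 h1)
  set I := Char.inertia (N := C') (lam : C' → ℂ) with hI
  have hinert : ∀ n : N, n ∈ I → n ∈ C' := by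
    intro n hn
    by_contra hnC
    refine hl (hS.eq_one_of_fixed n hnC (MonoidHom.ext fun v => Units.ext ?_))
    rw [MonoidHom.comp_apply, MonoidHom.coe_toHomUnits, MonoidHom.coe_toHomUnits]
    show (lam : C' → ℂ) (inC (conjP P n v)) / _ = (lam : C' → ℂ) (inC v) / _
    congr 1
    exact congrFun (Char.mem_inertia.1 hn) (inC v)
  -- the conjugates
  set q : N ⧸ C' → Cfsg.IrrCharacter C' := fun a =>
    ⟨Char.conjFun a.out (lam : C' → ℂ), Char.isIrr_conjFun _ lam.2⟩ with hq
  have hqinj : Function.Injective q := by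
    intro a b hab
    have h : Char.conjFun a.out (lam : C' → ℂ) = Char.conjFun b.out (lam : C' → ℂ) :=
      congrArg Subtype.val hab
    have h2 : (a.out * b.out⁻¹ : N) ∈ I := Char.mem_inertia.2 (by
      rw [← Char.conjFun_conjFun, h, Char.conjFun_inv_cancel])
    have h3 : (a.out * b.out⁻¹ : N) ∈ C' := hinert _ h2
    rw [← QuotientGroup.out_eq' a, ← QuotientGroup.out_eq' b, eq_comm]
    have h4 : ((b.out⁻¹ : N) * a.out) ∈ C' := hnorm.mem_comm h3
    exact QuotientGroup.eq.2 h4
  have hqm : ∀ a, m (q a) ≠ 0 := by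
    intro a h0
    refine hlm ?_
    have h1 := hm (q a)
    rw [h0, Nat.cast_zero] at h1
    have h2 : Cfsg.classInner res (lam : C' → ℂ) = 0 := by
      rw [← h1, ← Char.classInner_conjFun (N := C') a.out res (lam : C' → ℂ),
        show Char.conjFun a.out res = res from
          Char.conjFun_res (N := C') a.out (χ := fun n : N => χ n)
            (fun g h => Char.isClassFunction_of_isCharacter hχ g h)]
    rw [hm lam] at h2
    exact_mod_cast h2
  set T := Finset.univ.image q with hT
  have hTcard : T.card = e := by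
    rw [hT, Finset.card_image_of_injective _ hqinj, Finset.card_univ, ← Nat.card_eq_fintype_card,
      ← hS.rel]
    rfl
  have hdeg : ∀ ψ : Cfsg.IrrCharacter C', (1 : ℕ) ≤ Cfsg.charDegree (ψ : C' → ℂ) := fun ψ =>
    charDegree_pos ψ.2
  refine ⟨∑ ψ ∈ T, m ψ, ?_, ?_, ?_⟩
  · rw [← hTcard, Finset.card_eq_sum_ones]
    exact Finset.sum_le_sum fun ψ hψ => by
      obtain ⟨a, -, rfl⟩ := Finset.mem_image.1 hψ
      exact Nat.one_le_iff_ne_zero.2 (hqm a)
  · have h := hexp 1
    rw [show res 1 = χ 1 from rfl, ← charDegree_cast hχ] at h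
    simp only [← charDegree_cast (Char.IsIrr.isCharacter (Subtype.property _))] at h
    have h' : Cfsg.charDegree χ = ∑ ψ : Cfsg.IrrCharacter C', m ψ * Cfsg.charDegree (ψ : C' → ℂ) := by
      exact_mod_cast h
    rw [h']
    refine le_trans (Finset.sum_le_sum fun ψ _ => Nat.le_mul_of_pos_right _ (hdeg ψ))
      (Finset.sum_le_univ_sum_of_nonneg fun _ => Nat.zero_le _)
  · have h := hmsq
    simp only [Cfsg.classInner, hres] at h
    have hsum : ∑ c : C', χ ((c : N) : G) * conj (χ ((c : N) : G)) =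
        ((∑ g ∈ cset P,
          Complex.normSq (χ g) : ℝ) : ℂ) := by
      push_cast
      refine Finset.sum_bij (fun c _ => ((c : N) : G)) (fun c _ => mem_cset.2 c.2)
        (fun a _ b _ h => Subtype.ext (Subtype.ext h))
        (fun g hg => ⟨⟨⟨g, hle (mem_cset.1 hg)⟩,
          Subgroup.mem_subgroupOf.2 (mem_cset.1 hg)⟩, Finset.mem_univ _, rfl⟩)
        fun c _ => ?_
      rw [Complex.mul_conj]
    have hcard : Nat.card C' = Nat.card (Subgroup.centralizer (P : Set G)) :=
      Nat.card_congr (Subgroup.subgroupOfEquivOfLe hle).toEquiv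
    rw [hsum, hcard, inv_mul_eq_iff_eq_mul₀ (Nat.cast_ne_zero.2 Nat.card_pos.ne')] at h
    have h2 : ∑ g ∈ cset P, Complex.normSq (χ g) =
        (Nat.card (Subgroup.centralizer (P : Set G)) : ℝ) *
          (∑ ψ : Cfsg.IrrCharacter C', m ψ ^ 2 : ℕ) := by
      exact_mod_cast h
    rw [h2]
    refine mul_le_mul_of_nonneg_left ?_ (Nat.cast_nonneg _)
    exact_mod_cast (Finset.sum_le_sum fun ψ _ => Nat.le_self_pow two_ne_zero (m ψ)).trans
      (Finset.sum_le_univ_sum_of_nonneg (s := T) (fun ψ => Nat.zero_le (m ψ ^ 2)))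

omit hS in
/-- A normal subgroup on which an irreducible nonlinear character is scalar. -/
theorem exists_scalar_normal {χ : Cfsg.IrrCharacter G}
    (hx : 2 ≤ Cfsg.charDegree (χ : G → ℂ))
    (hP : ∀ u ∈ (P : Subgroup G), ‖(χ : G → ℂ) u‖ = Cfsg.charDegree (χ : G → ℂ)) :
    ∃ K : Subgroup G, K.Normal ∧ K ≠ ⊤ ∧ (P : Subgroup G) ≤ K := by
  classical
  obtain ⟨n, ρ, hρ, hc⟩ := χ.2
  have hn : Cfsg.charDegree (χ : G → ℂ) = n := charDegree_eq (by rw [← hc, ρ.char_one]; simp)
  obtain ⟨K, hK, hKmem⟩ := Char.exists_normal_of_scalar ρ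
  refine ⟨K, hK, fun hT => ?_, fun u hu => (hKmem u).2 ?_⟩
  · obtain ⟨-, hirr⟩ := Char.isIrreducible_iff.1 hρ
    rw [hn] at hx
    let v₀ : Fin n → ℂ := Pi.single ⟨0, by omega⟩ 1
    have hv₀ : v₀ ≠ 0 := fun h => by
      have := congrFun h ⟨0, by omega⟩
      simp [v₀] at this
    rcases hirr (Submodule.span ℂ {v₀}) (fun g v hv => by
      obtain ⟨ω, hω⟩ := (hKmem g).1 (hT ▸ Subgroup.mem_top g)
      rw [hω]
      exact Submodule.smul_mem _ ω hv) with h | h
    · exact hv₀ (Submodule.span_singleton_eq_bot.1 h)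
    · have h1 := finrank_span_singleton (K := ℂ) hv₀
      rw [h, finrank_top, Module.finrank_fin_fun] at h1
      omega
  · have h := hP u hu
    rw [hn, ← hc] at h
    obtain ⟨ω, hω, -⟩ := Char.scalar_of_norm_character_eq ρ u (by rw [h, Module.finrank_fin_fun])
    exact ⟨ω, hω⟩

open scoped Classical in
/-- The multiplicity of the principal character of `P`. -/
theorem Setup.exists_sum_eq {χ : G → ℂ} (hχ : Cfsg.IsCharacter G χ) :
    ∃ i : ℕ, ∑ y ∈ (Finset.univ : Finset (P : Subgroup G)).erase 1, χ (y : G) =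
      (Nat.card (P : Subgroup G) : ℂ) * i - (Cfsg.charDegree χ : ℂ) := by
  obtain ⟨i, hi⟩ := Char.classInner_isCharacter_eq_natCast
    (Char.isCharacter_res (P : Subgroup G) hχ) (Char.isCharacter_one (G := (P : Subgroup G)))
  refine ⟨i, ?_⟩
  simp only [Cfsg.classInner, map_one, mul_one] at hi
  rw [inv_mul_eq_iff_eq_mul₀ (Nat.cast_ne_zero.2 Nat.card_pos.ne'),
    ← Finset.add_sum_erase _ _ (Finset.mem_univ (1 : (P : Subgroup G))), OneMemClass.coe_one,
    ← charDegree_cast hχ] at hi
  linear_combination hi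

variable {M : Ideal Cfsg.AlgInt}

/-- A nonprincipal irreducible character of small degree. -/
theorem Setup.small_degree (hM : Cfsg.IsPModular p M)
    (hstar : ∀ x ∈ (P : Subgroup G), x ≠ 1 →
      Subgroup.centralizer ({x} : Set G) = Subgroup.centralizer (P : Set G))
    {χ : Cfsg.IrrCharacter G} (h1 : χ ≠ triv G)
    (hdeg : Cfsg.charDegree (χ : G → ℂ) ^ 2 + 1 < Nat.card (P : Subgroup G))
    (hnK : ¬ ∃ K : Subgroup G, K.Normal ∧ K ≠ ⊤ ∧ (P : Subgroup G) ≤ K) :
    Cfsg.charDegree (χ : G → ℂ) = 1 ∧ e = 1 := by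
  classical
  have hp : p.Prime := Fact.out
  -- a character of the block with `P` in its kernel is principal
  have hker : ∀ ψ : Cfsg.IrrCharacter G,
      (∀ u ∈ (P : Subgroup G), (ψ : G → ℂ) u = (ψ : G → ℂ) 1) → ψ = triv G := by
    intro ψ hψ
    have hc := Char.IsIrr.isCharacter ψ.2
    have hT : Char.kerSubgroup hc = ⊤ := by
      by_contra hne
      exact hnK ⟨_, inferInstance, hne, fun u hu => (Char.mem_kerSubgroup hc).2 (hψ u hu)⟩
    have hall : ∀ g, (ψ : G → ℂ) g = (ψ : G → ℂ) 1 := fun g =>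
      (Char.mem_kerSubgroup hc).1 (hT ▸ Subgroup.mem_top g)
    obtain ⟨m, hm⟩ := Char.IsChar.degree hc
    have h2 := Char.classInner_irr_self ψ.2
    simp only [Cfsg.classInner, hall, hm, Finset.sum_const, Finset.card_univ,
      ← Nat.card_eq_fintype_card, nsmul_eq_mul, Complex.conj_natCast,
      inv_mul_cancel_left₀ (Char.card_ne_zero (G := G))] at h2
    have h3 : m * m = 1 := by exact_mod_cast h2
    exact Subtype.ext (funext fun g => by
      rw [hall g, hm, Nat.eq_one_of_mul_eq_one_left h3, Nat.cast_one]; rfl)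
  have hχc := Char.IsIrr.isCharacter χ.2
  set x := Cfsg.charDegree (χ : G → ℂ) with hx
  have hx0 : 0 < x := charDegree_pos χ.2
  have hPker : ¬ ∀ u ∈ (P : Subgroup G), (χ : G → ℂ) u = (χ : G → ℂ) 1 := fun h => h1 (hker χ h)
  obtain ⟨k, hek, hkx, hknorm⟩ := hS.constituents_centralizer hχc hPker
  have hex : e ≤ x := hek.trans hkx
  rw [← hx] at hkx
  have he0 := hS.e_pos
  by_cases hx1 : x = 1
  · exact ⟨hx1, by omega⟩
  exfalso
  have hx2 : 2 ≤ x := by omega
  set q := Nat.card (P : Subgroup G) with hq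
  have hxsq : x ≤ x ^ 2 := Nat.le_self_pow two_ne_zero x
  obtain ⟨X, Y, a, d, δ, ζ, hE⟩ := hS.exceptional hM (show e + 1 < q by omega)
  set r := Y.card with hr
  have hmul : r * e + 1 = q := hE.card_mul
  have hre : e + 1 ≤ r := by
    by_contra hlt
    have h2 : r * e ≤ e * e := Nat.mul_le_mul_right e (by omega)
    have h3 : e * e ≤ x ^ 2 := by rw [sq]; exact Nat.mul_le_mul hex hex
    omega
  have hnorm := hE.norm
  have hd0 : d = 0 := by
    by_contra hd
    have hd2 : 1 ≤ d ^ 2 := sq_pos_of_ne_zero hd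
    have hX1 : 1 ≤ ∑ χ ∈ X, a χ ^ 2 := by
      refine le_trans ?_
        (Finset.single_le_sum (f := fun χ => a χ ^ 2) (fun _ _ => sq_nonneg _) hE.triv_mem)
      rw [hE.a_triv]; norm_num
    have hr' : (e : ℤ) ≤ (r : ℤ) - 1 := by omega
    have h3 := sq_nonneg (d - δ)
    rw [← hr] at hnorm
    have h4 : ((r : ℤ) - 1) * d ^ 2 ≤ e := by linarith
    have h5 : (r : ℤ) - 1 = e := le_antisymm
      ((le_mul_of_one_le_right (by linarith) hd2).trans h4) hr'
    rw [h5] at h4 hnorm
    have hd1 : d ^ 2 = 1 := le_antisymm (by nlinarith) hd2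
    rw [hd1] at hnorm
    have hdd : (d - δ) ^ 2 = 0 := by linarith
    have hdδ : d = δ := sub_eq_zero.1 (pow_eq_zero_iff two_ne_zero |>.1 hdd)
    have hsum : ∑ χ ∈ X, a χ ^ 2 = 1 := by linarith
    have hX : X = {triv G} := by
      refine Finset.eq_singleton_iff_unique_mem.2 ⟨hE.triv_mem, fun ψ hψ => ?_⟩
      by_contra hne
      have h6 := Finset.add_sum_erase X (fun χ => a χ ^ 2) hE.triv_mem
      have h7 : a ψ ^ 2 ≤ ∑ χ ∈ X.erase (triv G), a χ ^ 2 :=
        Finset.single_le_sum (f := fun χ => a χ ^ 2) (fun _ _ => sq_nonneg _)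
          (Finset.mem_erase.2 ⟨hne, hψ⟩)
      have h8 := sq_pos_of_ne_zero (hE.a_ne ψ hψ)
      have h9 : a (triv G) ^ 2 = 1 := by rw [hE.a_triv]; norm_num
      linarith
    obtain ⟨η, hη⟩ : ∃ η, η ∈ Y := Finset.card_pos.1 (by omega)
    have hrel := hE.relation η hη 1 (by rw [orderOf_one, Nat.dvd_one]; exact hp.ne_one)
    rw [hX, Finset.sum_singleton, hE.a_triv, ← hr, hdδ,
      ← charDegree_cast (Char.IsIrr.isCharacter η.2)] at hrel
    simp only [triv, Int.cast_one, mul_one] at hrel
    have hz : ((r : ℤ) * δ - δ) * (Cfsg.charDegree (η : G → ℂ) : ℤ) + 1 = 0 := by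
      exact_mod_cast hrel
    have h10 : (e : ℤ) * (δ * (Cfsg.charDegree (η : G → ℂ) : ℤ)) = -1 := by
      rw [← h5]; linear_combination hz
    have h11 := Int.isUnit_iff.1 (IsUnit.of_mul_eq_one _ (show (e : ℤ) *
      -(δ * (Cfsg.charDegree (η : G → ℂ) : ℤ)) = 1 by linarith))
    have h12 : r = 2 ∧ e = 1 := by omega
    rw [h12.1, h12.2] at hmul
    have : 2 * 2 ≤ x ^ 2 := by rw [sq]; exact Nat.mul_le_mul hx2 hx2
    omega
  subst hd0
  -- `χ * conj χ`
  set C := Subgroup.centralizer (P : Set G) with hC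
  set F := (fiber p (1 : G)).card with hF
  have hΨc : Cfsg.IsCharacter G ((χ : G → ℂ) * fun g => conj ((χ : G → ℂ) g)) :=
    Char.isCharacter_mul hχc (Char.isCharacter_conj hχc)
  obtain ⟨c, hc, hcexp, -⟩ := Char.IsChar.exists_mult hΨc
  have hΨ : ∀ g, (χ : G → ℂ) g * conj ((χ : G → ℂ) g) =
      ∑ ψ : Cfsg.IrrCharacter G, (c ψ : ℂ) * (ψ : G → ℂ) g := fun g => by
    have h := congrFun hcexp g
    simpa [Finset.sum_apply] using h
  have hPC := hS.le_centralizer
  obtain ⟨K, hK⟩ : ∃ K : ℕ, Nat.card C = K * q := by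
    obtain ⟨K, hK⟩ := Subgroup.card_dvd_of_le hPC
    exact ⟨K, hK.trans (mul_comm _ _)⟩
  have hK0 : 0 < K := Nat.pos_of_ne_zero fun h => by
    rw [h, zero_mul] at hK
    exact Nat.card_pos.ne' hK
  have hfibC : ∀ y : (P : Subgroup G), y ≠ 1 → ∀ g ∈ fiber p (y : G), g ∈ C := by
    intro y hy g hg
    rw [← hstar y y.2 fun h => hy (Subtype.ext h), Subgroup.mem_centralizer_singleton_iff,
      ← mem_fiber.1 hg]
    exact (Commute.pow_right (Commute.refl g) _).eq
  have hfcard : ∀ y : (P : Subgroup G), y ≠ 1 → (fiber p (y : G)).card = K := by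
    intro y hy
    have h := hS.card_fiber y.2 fun h => hy (Subtype.ext h)
    rw [hstar y y.2 fun h => hy (Subtype.ext h), hK] at h
    exact Nat.eq_of_mul_eq_mul_right Nat.card_pos h
  set reg := (cset P).filter fun g => pPartOf p g = 1 with hreg
  have hsplit : ∀ f : G → ℂ, ∑ g ∈ cset P, f g = ∑ g ∈ reg, f g +
      ∑ y ∈ (Finset.univ : Finset (P : Subgroup G)).erase 1, ∑ g ∈ fiber p (y : G), f g := by
    intro f
    have hmap : ∀ g ∈ cset P, pPartOf p g ∈
        ((Finset.univ : Finset (P : Subgroup G)).map ⟨Subtype.val, Subtype.val_injective⟩) := by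
      intro g hg
      have hgC : pPartOf p g ∈ C := Subgroup.pow_mem _ (mem_cset.1 hg) _
      obtain ⟨j, hj⟩ := orderOf_pPartOf hp g
      have hpg : IsPGroup p (Subgroup.zpowers (pPartOf p g)) :=
        IsPGroup.of_card (n := j) (by rw [Nat.card_zpowers, hj])
      have h : pPartOf p g ∈ Subgroup.zpowers (pPartOf p g) ⊓ (P : Subgroup G) := by
        rw [← hpg.inf_normalizer_sylow P]
        exact Subgroup.mem_inf.2 ⟨Subgroup.mem_zpowers _, Subgroup.centralizer_le_normalizer _ hgC⟩
      exact Finset.mem_map.2 ⟨⟨_, (Subgroup.mem_inf.1 h).2⟩, Finset.mem_univ _, rfl⟩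
    rw [← Finset.sum_fiberwise_of_maps_to hmap, Finset.sum_map,
      ← Finset.add_sum_erase _ _ (Finset.mem_univ (1 : (P : Subgroup G)))]
    congr 1
    refine Finset.sum_congr rfl fun y hy => Finset.sum_congr ?_ fun _ _ => rfl
    ext g
    simp only [Finset.mem_filter, mem_fiber, Function.Embedding.coeFn_mk, mem_cset]
    exact ⟨fun h => h.2, fun h =>
      ⟨hfibC y (Finset.ne_of_mem_erase hy) g (mem_fiber.2 h), h⟩⟩
  have hcsetcard : (cset P).card = Nat.card C := by
    rw [cset, ← Fintype.card_subtype, ← Nat.card_eq_fintype_card]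
  have hregcard : reg.card = K := by
    have h := hsplit fun _ => (1 : ℂ)
    simp only [Finset.sum_const, nsmul_eq_mul, mul_one, hcsetcard, hK] at h
    rw [Finset.sum_congr rfl (g := fun _ => (K : ℂ)) fun y hy => by
      rw [hfcard y (Finset.ne_of_mem_erase hy)], Finset.sum_const,
      Finset.card_erase_of_mem (Finset.mem_univ _), Finset.card_univ, ← Nat.card_eq_fintype_card,
      ← hq, nsmul_eq_mul] at h
    have h' : K * q = reg.card + (q - 1) * K := by exact_mod_cast h
    obtain ⟨q', hq'⟩ := Nat.exists_eq_add_of_le' (show 1 ≤ q by omega)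
    rw [hq', Nat.add_sub_cancel, Nat.mul_add, mul_one, mul_comm K q'] at h'
    omega
  set S := X ∪ Y with hSdef
  have hSmem : ∀ ψ, ψ ∈ S ↔ ψ ∈ Cfsg.principalBlock M G := fun ψ => by
    rw [hE.mem, hSdef, Finset.mem_union]
  choose i hi using fun ψ : Cfsg.IrrCharacter G =>
    hS.exists_sum_eq (Char.IsIrr.isCharacter ψ.2)
  have hψfib : ∀ (ψ : Cfsg.IrrCharacter G) (y : (P : Subgroup G)), y ≠ 1 →
      ∑ g ∈ fiber p (y : G), (ψ : G → ℂ) g =
        if ψ ∈ S then (K : ℂ) * (ψ : G → ℂ) y else 0 := by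
    intro ψ y hy
    have hy1 : (y : G) ≠ 1 := fun h => hy (Subtype.ext h)
    split_ifs with hψ
    · rw [Finset.sum_congr rfl fun g hg =>
        hS.apply_mul hM y.2 hy1 ((hSmem ψ).1 hψ) (mem_fiber.1 hg), Finset.sum_const, nsmul_eq_mul,
        hfcard y hy]
    · have h := hS.avg_eq_zero hM y.2 (χ := ψ) fun h => hψ ((hSmem ψ).2 h)
      rw [avg, hfcard y hy] at h
      exact (mul_eq_zero.1 h).resolve_left (inv_ne_zero (Nat.cast_ne_zero.2 hK0.ne'))
  set I : ℕ := ∑ ψ ∈ S, c ψ * i ψ with hI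
  set D : ℕ := ∑ ψ ∈ S, c ψ * Cfsg.charDegree (ψ : G → ℂ) with hD
  -- the norm on the centralizer
  have hres : Cfsg.IsCharacter C fun u : C => (χ : G → ℂ) u := Char.isCharacter_res C hχc
  obtain ⟨m, -, -, hmsq⟩ := Char.IsChar.exists_mult hres
  set W : ℕ := ∑ ψ : Cfsg.IrrCharacter C, m ψ ^ 2 with hW
  have hWsum : ∑ g ∈ cset P, (χ : G → ℂ) g * conj ((χ : G → ℂ) g) =
      (Nat.card C : ℂ) * W := by
    rw [← hmsq, Cfsg.classInner, mul_inv_cancel_left₀ (Nat.cast_ne_zero.2 Nat.card_pos.ne')]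
    exact Finset.sum_subtype (cset P) (fun g => mem_cset) _
  have hkW : k ≤ W := by
    have hreal : ∑ g ∈ cset P, Complex.normSq ((χ : G → ℂ) g) = (Nat.card C : ℝ) * (W : ℝ) := by
      have h := hWsum
      simp only [Complex.mul_conj] at h
      exact_mod_cast h
    rw [hreal] at hknorm
    exact_mod_cast le_of_mul_le_mul_left hknorm (Nat.cast_pos.2 Nat.card_pos)
  set R : ℝ := ∑ g ∈ reg, Complex.normSq ((χ : G → ℂ) g) with hR
  have heq : (R : ℂ) = (K : ℂ) * ((q : ℂ) * ((W : ℂ) - I) + D) := by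
    have h := hsplit fun g => (χ : G → ℂ) g * conj ((χ : G → ℂ) g)
    rw [hWsum, hK] at h
    have e1 : ∀ y ∈ (Finset.univ : Finset (P : Subgroup G)).erase 1,
        ∑ g ∈ fiber p (y : G), (χ : G → ℂ) g * conj ((χ : G → ℂ) g) =
          ∑ ψ ∈ S, (K : ℂ) * ((c ψ : ℂ) * (ψ : G → ℂ) y) := by
      intro y hy
      simp only [hΨ]
      rw [Finset.sum_comm]
      simp only [← Finset.mul_sum, hψfib _ y (Finset.ne_of_mem_erase hy)]
      rw [← Finset.sum_subset (Finset.subset_univ S) fun ψ _ hψ => by rw [if_neg hψ, mul_zero],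
        Finset.mul_sum]
      exact Finset.sum_congr rfl fun ψ hψ => by rw [if_pos hψ]; ring
    rw [Finset.sum_congr rfl e1, Finset.sum_comm] at h
    simp only [← Finset.mul_sum, hi] at h
    have e2 : ∑ g ∈ reg, (χ : G → ℂ) g * conj ((χ : G → ℂ) g) = (R : ℂ) := by
      rw [hR]; push_cast
      exact Finset.sum_congr rfl fun g _ => Complex.mul_conj _
    rw [e2] at h
    simp only [mul_sub, Finset.sum_sub_distrib] at h
    have e3 : ∑ ψ ∈ S, (c ψ : ℂ) * ((q : ℂ) * (i ψ : ℂ)) = (q : ℂ) * I := by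
      rw [hI]; push_cast; rw [Finset.mul_sum]
      exact Finset.sum_congr rfl fun ψ _ => by ring
    have e4 : ∑ ψ ∈ S, (c ψ : ℂ) * (Cfsg.charDegree (ψ : G → ℂ) : ℂ) = (D : ℂ) := by
      rw [hD]; push_cast; rfl
    rw [← hq, e3, e4] at h
    push_cast at h
    linear_combination -h
  have hRreal : R = (K : ℝ) * ((q : ℝ) * ((W : ℝ) - I) + D) := by exact_mod_cast heq
  have hnormle : ∀ g, Complex.normSq ((χ : G → ℂ) g) ≤ (x : ℝ) ^ 2 := by
    intro g
    rw [Complex.normSq_eq_norm_sq]
    refine pow_le_pow_left₀ (norm_nonneg _) ((Char.IsChar.norm_le hχc g).trans ?_) 2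
    rw [← charDegree_cast hχc, Complex.natCast_re]
  have hR0 : 0 ≤ R := Finset.sum_nonneg fun g _ => Complex.normSq_nonneg _
  have hRx : R ≤ (K : ℝ) * (x : ℝ) ^ 2 := by
    refine (Finset.sum_le_sum fun g _ => hnormle g).trans ?_
    rw [Finset.sum_const, hregcard, nsmul_eq_mul]
  have hKr : (0 : ℝ) < K := Nat.cast_pos.2 hK0
  have hlow : 0 ≤ (q : ℤ) * ((W : ℤ) - I) + D := by
    have : (0 : ℝ) ≤ (q : ℝ) * ((W : ℝ) - I) + D := by
      rw [hRreal] at hR0
      exact nonneg_of_mul_nonneg_right (by linarith) hKr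
    exact_mod_cast this
  have hhigh : (q : ℤ) * ((W : ℤ) - I) + D ≤ (x : ℤ) ^ 2 := by
    have : (q : ℝ) * ((W : ℝ) - I) + D ≤ (x : ℝ) ^ 2 := by
      rw [hRreal] at hRx
      exact le_of_mul_le_mul_left hRx hKr
    exact_mod_cast this
  have hDle : D ≤ x ^ 2 := by
    have h := hΨ 1
    rw [← charDegree_cast hχc, Complex.conj_natCast] at h
    simp only [← charDegree_cast (Char.IsIrr.isCharacter (Subtype.property _))] at h
    have h' : Cfsg.charDegree (χ : G → ℂ) * Cfsg.charDegree (χ : G → ℂ) =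
        ∑ ψ : Cfsg.IrrCharacter G, c ψ * Cfsg.charDegree (ψ : G → ℂ) := by exact_mod_cast h
    rw [hD, sq, hx, h']
    exact Finset.sum_le_sum_of_subset (Finset.subset_univ S)
  have hWI : W = I := by
    have hxq : (x : ℤ) ^ 2 + 1 < q := by exact_mod_cast hdeg
    have hDz : (D : ℤ) ≤ (x : ℤ) ^ 2 := by exact_mod_cast hDle
    have hD0 : (0 : ℤ) ≤ D := Nat.cast_nonneg _
    rcases lt_trichotomy W I with h | h | h
    · have : (q : ℤ) * ((W : ℤ) - I) ≤ (q : ℤ) * (-1) :=
        mul_le_mul_of_nonneg_left (by omega) (Nat.cast_nonneg _)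
      omega
    · exact h
    · have : (q : ℤ) * 1 ≤ (q : ℤ) * ((W : ℤ) - I) :=
        mul_le_mul_of_nonneg_left (by omega) (Nat.cast_nonneg _)
      omega
  -- the constituents in the block
  have htrivS : triv G ∈ S := Finset.mem_union_left _ hE.triv_mem
  have hctriv : c (triv G) = 1 := by
    have h := hc (triv G)
    have h2 : Cfsg.classInner ((χ : G → ℂ) * fun g => conj ((χ : G → ℂ) g))
        ((triv G : Cfsg.IrrCharacter G) : G → ℂ) =
        Cfsg.classInner (χ : G → ℂ) (χ : G → ℂ) := by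
      simp [Cfsg.classInner, triv]
    rw [h2, Char.classInner_irr_self χ.2] at h
    exact_mod_cast h.symm
  have hitriv : i (triv G) = 1 := by
    have h := hi (triv G)
    rw [charDegree_eq (n := 1) (by simp [triv])] at h
    simp only [triv, Finset.sum_const, Finset.card_erase_of_mem (Finset.mem_univ _),
      Finset.card_univ, ← Nat.card_eq_fintype_card, nsmul_eq_mul, mul_one,
      Nat.cast_sub (show 1 ≤ Nat.card (P : Subgroup G) by omega)] at h
    have h' : (q : ℂ) * (i (triv G) : ℂ) = q * 1 := by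
      simp only [hq, triv]; push_cast at h ⊢; linear_combination -h
    exact_mod_cast mul_left_cancel₀ (Nat.cast_ne_zero.2 (by omega)) h'
  have hdegle : ∀ ψ ∈ S, ψ ≠ triv G → c ψ ≠ 0 →
      c ψ * Cfsg.charDegree (ψ : G → ℂ) + 1 ≤ D ∧ Cfsg.charDegree (ψ : G → ℂ) + 1 ≤ x ^ 2 := by
    intro ψ hψ hne hcψ
    have h : c ψ * Cfsg.charDegree (ψ : G → ℂ) + 1 ≤ D := by
      have h2 : ∑ φ ∈ ({ψ, triv G} : Finset _), c φ * Cfsg.charDegree (φ : G → ℂ) ≤ D :=
        Finset.sum_le_sum_of_subset (by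
          intro z hz
          rcases Finset.mem_insert.1 hz with rfl | hz
          · exact hψ
          · rw [Finset.mem_singleton.1 hz]; exact htrivS)
      rw [Finset.sum_pair hne, hctriv, charDegree_eq (χ := ((triv G : Cfsg.IrrCharacter G) : G → ℂ))
        (n := 1) (by simp [triv])] at h2
      omega
    refine ⟨h, ?_⟩
    have h3 : Cfsg.charDegree (ψ : G → ℂ) ≤ c ψ * Cfsg.charDegree (ψ : G → ℂ) :=
      Nat.le_mul_of_pos_left _ (Nat.pos_of_ne_zero hcψ)
    omega
  have hne1 : ∀ y ∈ (Finset.univ : Finset (P : Subgroup G)).erase 1, (y : G) ≠ 1 := fun y hy h =>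
    Finset.ne_of_mem_erase hy (Subtype.ext h)
  have hself : ∀ y : (P : Subgroup G), pPartOf p (y : G) = y := fun y =>
    pPartOf_self (exists_orderOf_pow y.2)
  have hXzero : ∀ ψ ∈ X, ψ ≠ triv G → c ψ = 0 := by
    intro ψ hψX hne
    by_contra hcψ
    obtain ⟨-, hdd⟩ := hdegle ψ (Finset.mem_union_left _ hψX) hne hcψ
    have h := hi ψ
    rw [Finset.sum_congr rfl fun (y : (P : Subgroup G)) hy =>
      hE.valX ψ hψX (y : G) y (Finset.ne_of_mem_erase hy) (hself y), Finset.sum_const,
      Finset.card_erase_of_mem (Finset.mem_univ _), Finset.card_univ, ← Nat.card_eq_fintype_card,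
      nsmul_eq_mul, Nat.cast_sub (show 1 ≤ Nat.card (P : Subgroup G) by omega), ← hq] at h
    set dg := Cfsg.charDegree (ψ : G → ℂ) with hdg
    have hz : ((q : ℤ) - 1) * a ψ = (q : ℤ) * i ψ - dg := by
      have : ((((q : ℤ) - 1) * a ψ : ℤ) : ℂ) = (((q : ℤ) * i ψ - dg : ℤ) : ℂ) := by
        push_cast at h ⊢; linear_combination h
      exact_mod_cast this
    have ha2 : a ψ ^ 2 ≤ e := by
      have h6 := Finset.add_sum_erase X (fun χ => a χ ^ 2) hE.triv_mem
      have h7 : a ψ ^ 2 ≤ ∑ χ ∈ X.erase (triv G), a χ ^ 2 :=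
        Finset.single_le_sum (f := fun χ => a χ ^ 2) (fun _ _ => sq_nonneg _)
          (Finset.mem_erase.2 ⟨hne, hψX⟩)
      have h9 : a (triv G) ^ 2 = 1 := by rw [hE.a_triv]; norm_num
      have h10 : (0 - δ) ^ 2 = 1 := by rcases hE.sign with e' | e' <;> rw [e'] <;> norm_num
      have h11 := hnorm
      rw [h10] at h11
      linarith
    have hdeq : (dg : ℤ) = (q : ℤ) * ((i ψ : ℤ) - a ψ) + a ψ := by linarith
    have hdq : (dg : ℤ) + 3 ≤ q := by omega
    rcases lt_trichotomy (a ψ) 0 with ha | ha | ha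
    · have hj : -a ψ ≤ (i ψ : ℤ) - a ψ := by omega
      have := mul_le_mul_of_nonneg_left hj (show (0 : ℤ) ≤ q by omega)
      have h2 : ((q : ℤ) - 1) * 1 ≤ ((q : ℤ) - 1) * (-a ψ) :=
        mul_le_mul_of_nonneg_left (by omega) (by omega)
      linarith
    · exact hE.a_ne ψ hψX ha
    · have haq : a ψ < q := by
        have : a ψ ≤ a ψ ^ 2 := Int.le_self_sq _
        omega
      rcases lt_trichotomy ((i ψ : ℤ) - a ψ) 0 with hj | hj | hj
      · have : (q : ℤ) * ((i ψ : ℤ) - a ψ) ≤ (q : ℤ) * (-1) :=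
          mul_le_mul_of_nonneg_left (by omega) (by omega)
        omega
      · rw [hj, mul_zero, zero_add] at hdeq
        refine hne (hker ψ fun u hu => ?_)
        by_cases hu1 : u = 1
        · rw [hu1]
        rw [hE.valX ψ hψX u ⟨u, hu⟩ (fun h' => hu1 (congrArg Subtype.val h')) (hself ⟨u, hu⟩),
          ← charDegree_cast (Char.IsIrr.isCharacter ψ.2), ← hdg, ← hdeq, Int.cast_natCast]
      · have : (q : ℤ) * 1 ≤ (q : ℤ) * ((i ψ : ℤ) - a ψ) :=
          mul_le_mul_of_nonneg_left (by omega) (by omega)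
        omega
  have hYdeg : ∀ ψ ∈ Y,
      (Cfsg.charDegree (ψ : G → ℂ) : ℤ) = (q : ℤ) * i ψ + δ * (e : ℤ) := by
    intro ψ hψ
    obtain ⟨l, hl, rfl⟩ := hE.zeta_surj ψ hψ
    have h := hi (ζ l)
    rw [Finset.sum_congr rfl fun (y : (P : Subgroup G)) hy =>
      hE.valY l hl (y : G) y (Finset.ne_of_mem_erase hy) (hself y)] at h
    simp only [Int.cast_zero, zero_add] at h
    rw [← Finset.mul_sum, Finset.sum_comm] at h
    have e1 : ∀ w ∈ orb P l,
        ∑ y ∈ (Finset.univ : Finset (P : Subgroup G)).erase 1, (w y : ℂ) = -1 := by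
      intro w hw
      have hw1 : w ≠ 1 := fun e' => one_notMem_orb hl (e' ▸ hw)
      have h2 := Invol.sum_hom_coe w hw1
      rw [← Finset.add_sum_erase _ _ (Finset.mem_univ (1 : (P : Subgroup G))), map_one,
        Units.val_one] at h2
      linear_combination h2
    rw [Finset.sum_congr rfl e1, Finset.sum_const, hS.card_orb hl, nsmul_eq_mul, ← hq] at h
    have : (((Cfsg.charDegree (ζ l : G → ℂ) : ℤ)) : ℂ) =
        (((q : ℤ) * i (ζ l) + δ * (e : ℤ) : ℤ) : ℂ) := by
      push_cast; linear_combination h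
    exact_mod_cast this
  set J : ℕ := ∑ ψ ∈ Y, c ψ * i ψ with hJ
  have hIJ : I = 1 + J := by
    rw [hI, hSdef, Finset.sum_union hE.disj, hJ, Finset.sum_eq_single_of_mem (triv G) hE.triv_mem
      fun ψ hψ hne => by rw [hXzero ψ hψ hne, zero_mul], hctriv, hitriv]
  have hW1 : W = 1 := by
    rcases hE.sign with hδ | hδ <;> subst hδ
    · have : J = 0 := Finset.sum_eq_zero fun ψ hψ => by
        by_cases hcψ : c ψ = 0
        · rw [hcψ, zero_mul]
        have hψne : ψ ≠ triv G := fun h =>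
          Finset.disjoint_left.1 hE.disj hE.triv_mem (h ▸ hψ)
        obtain ⟨-, hdd⟩ := hdegle ψ (Finset.mem_union_right _ hψ) hψne hcψ
        have h := hYdeg ψ hψ
        have hi0 : i ψ = 0 := by
          by_contra hne
          have : (q : ℤ) * 1 ≤ (q : ℤ) * (i ψ : ℤ) :=
            mul_le_mul_of_nonneg_left (by omega) (by omega)
          omega
        rw [hi0, mul_zero]
      omega
    · have hDJ : 1 + (q - e) * J ≤ D := by
        rw [hD, hSdef, Finset.sum_union hE.disj, hJ, Finset.mul_sum]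
        refine Nat.add_le_add ?_ (Finset.sum_le_sum fun ψ hψ => ?_)
        · refine le_trans ?_ (Finset.single_le_sum
            (f := fun ψ => c ψ * Cfsg.charDegree (ψ : G → ℂ)) (fun _ _ => Nat.zero_le _) hE.triv_mem)
          rw [hctriv, one_mul]
          exact charDegree_pos (triv G).2
        · have h := hYdeg ψ hψ
          have hdpos := charDegree_pos ψ.2
          have hi1 : 1 ≤ i ψ := by
            by_contra hne
            rw [show i ψ = 0 by omega] at h
            push_cast at h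
            omega
          obtain ⟨i', hi'⟩ := Nat.exists_eq_add_of_le' hi1
          have h2 : (q - e) * i ψ ≤ Cfsg.charDegree (ψ : G → ℂ) := by
            have hei : (e : ℤ) ≤ (e : ℤ) * (i ψ : ℤ) :=
              le_mul_of_one_le_right (by omega) (by omega)
            have : (((q - e) * i ψ : ℕ) : ℤ) ≤ (Cfsg.charDegree (ψ : G → ℂ) : ℤ) := by
              push_cast [show e ≤ q by omega]
              linarith
            exact_mod_cast this
          calc (q - e) * (c ψ * i ψ) = c ψ * ((q - e) * i ψ) := by ring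
            _ ≤ _ := Nat.mul_le_mul_left _ h2
      rcases (show J = 0 ∨ J = 1 ∨ 2 ≤ J by omega) with hJ0 | hJ1 | hJ2
      · omega
      · rw [hJ1, mul_one] at hDJ
        omega
      · have h2 : (q - e) * 2 ≤ (q - e) * J := Nat.mul_le_mul_left _ hJ2
        have h3 : 2 * e ≤ x ^ 2 := by
          rw [sq]
          exact Nat.mul_le_mul hx2 hex
        omega
  -- `χ` is irreducible on the centralizer
  have hirr : Cfsg.IsIrrCharacter C fun u : C => (χ : G → ℂ) u := by
    rw [Char.isIrr_iff_norm_one hres, hmsq, hW1, Nat.cast_one]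
  refine hnK (exists_scalar_normal hx2 fun u hu => ?_)
  have hcu : ∀ b : C, b * ⟨u, hPC hu⟩ * b⁻¹ = (⟨u, hPC hu⟩ : C) := fun b => Subtype.ext (by
    show (b : G) * u * (b : G)⁻¹ = u
    rw [← Subgroup.mem_centralizer_iff.1 b.2 u hu, mul_inv_cancel_right])
  have h := apply_mul_central hirr hcu (⟨u, hPC hu⟩ : C)⁻¹
  rw [mul_inv_cancel] at h
  simp only [OneMemClass.coe_one, Subgroup.coe_inv, Char.IsChar.inv_eq_conj hχc,
    Complex.mul_conj, ← charDegree_cast hχc, ← hx] at h
  have h' : (x : ℝ) * x = Complex.normSq ((χ : G → ℂ) u) := by exact_mod_cast h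
  rw [Complex.normSq_eq_norm_sq, ← sq] at h'
  exact ((sq_eq_sq₀ (Nat.cast_nonneg x) (norm_nonneg _)).1 h').symm

/-- `e = 1` gives a normal subgroup of index `|P|`. -/
theorem Setup.exists_index (he : e = 1) :
    ∃ N : Subgroup G, N.Normal ∧ N.index = Nat.card (P : Subgroup G) := by
  have hp : p.Prime := Fact.out
  have hrel := hS.rel
  rw [he] at hrel
  have hle : Subgroup.normalizer (P : Set G) ≤ Subgroup.centralizer (P : Set G) :=
    Subgroup.relIndex_eq_one.1 hrel
  obtain ⟨L, hL, hcop, j, hj⟩ := Fusion.hasNormalPComplement_iff_exists.1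
    (Fusion.hasNormalPComplement_of_normalizer_le_centralizer P hle)
  refine ⟨L, hL, ?_⟩
  have hLp : ¬ p ∣ Nat.card L := fun h => by
    have h2 := Nat.dvd_gcd h (dvd_refl p)
    rw [hcop] at h2
    exact hp.not_dvd_one h2
  have h := L.card_mul_index
  rw [hj] at h
  have h2 := congrArg (fun t => t.factorization p) h
  simp only [Nat.factorization_mul Nat.card_pos.ne' (pow_ne_zero _ hp.ne_zero), Finsupp.add_apply,
    Nat.factorization_eq_zero_of_not_dvd hLp, hp.factorization_pow, Finsupp.single_eq_same,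
    zero_add] at h2
  rw [hj, P.card_eq_multiplicity, ← h2]

omit hS in
/-- A faithful character of small degree: `P` is normal. -/
theorem normal_of_small_faithful {p : ℕ} [Fact p.Prime] : ∀ (n : ℕ) {G : Type u} [Group G]
    [Fintype G], Nat.card G ≤ n → ∀ (P : Sylow p G), Nat.card (P : Subgroup G) ≠ 1 →
    (∀ x ∈ (P : Subgroup G), x ≠ 1 →
      Subgroup.centralizer ({x} : Set G) = Subgroup.centralizer ((P : Subgroup G) : Set G)) →
    ∀ χ : G → ℂ, Cfsg.IsCharacter G χ → (∀ g : G, χ g = χ 1 → g = 1) →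
      Cfsg.charDegree χ ^ 2 + 1 < Nat.card (P : Subgroup G) → (P : Subgroup G).Normal := by
  intro n
  induction n with
  | zero =>
    intro G _ _ hn
    exact absurd hn (by have := Nat.card_pos (α := G); omega)
  | succ n ih =>
    intro G _ _ hn P hP1 hstar χ hχ hfaith hdeg
    classical
    obtain ⟨M, hM⟩ := Blocks.exists_isPModular p (Fact.out : p.Prime)
    by_cases hK : Subgroup.normalClosure ((P : Subgroup G) : Set G) = ⊤
    · have hS := setup_of_star (G := G) (P := P) hstar
      obtain ⟨m, hm, hmexp, -⟩ := Char.IsChar.exists_mult hχ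
      -- every constituent is linear
      have hlin : ∀ ψ : Cfsg.IrrCharacter G, m ψ ≠ 0 → (ψ : G → ℂ) 1 = 1 := by
        intro ψ hψ
        by_cases hψ1 : ψ = triv G
        · rw [hψ1]; rfl
        have hle : Cfsg.charDegree (ψ : G → ℂ) ≤ Cfsg.charDegree χ := by
          have h := Char.IsChar.constituent_degree_le hχ ψ.2
            (by rw [hm ψ]; exact Nat.cast_ne_zero.2 hψ)
          rw [← charDegree_cast (Char.IsIrr.isCharacter ψ.2), ← charDegree_cast hχ,
            Complex.natCast_re, Complex.natCast_re] at h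
          exact_mod_cast h
        have hd : Cfsg.charDegree (ψ : G → ℂ) ^ 2 + 1 < Nat.card (P : Subgroup G) :=
          lt_of_le_of_lt (Nat.add_le_add_right (Nat.pow_le_pow_left hle 2) 1) hdeg
        obtain ⟨h, -⟩ := hS.small_degree hM hstar hψ1 hd fun ⟨K, hKn, hKne, hPK⟩ =>
          hKne (top_le_iff.1 (hK ▸ Subgroup.normalClosure_le_normal hPK))
        rw [← charDegree_cast (Char.IsIrr.isCharacter ψ.2), h, Nat.cast_one]
      have hexp : ∀ g, χ g = ∑ ψ : Cfsg.IrrCharacter G, (m ψ : ℂ) * (ψ : G → ℂ) g := fun g => by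
        conv_lhs => rw [hmexp]
        simp [Finset.sum_apply]
      refine ⟨fun u hu g => ?_⟩
      have hcomm : g * u * g⁻¹ * u⁻¹ = 1 := by
        refine hfaith _ ?_
        rw [hexp, hexp]
        refine Finset.sum_congr rfl fun ψ _ => ?_
        by_cases hψ : m ψ = 0
        · simp [hψ]
        have h1 := hlin ψ hψ
        have hc := Char.IsIrr.isCharacter ψ.2
        have hmul := CharArith.linear_mul hc h1
        have hinv : ∀ a : G, (ψ : G → ℂ) a * (ψ : G → ℂ) a⁻¹ = 1 := fun a => by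
          rw [← hmul, mul_inv_cancel, h1]
        congr 1
        rw [hmul, hmul, hmul, h1]
        linear_combination ((ψ : G → ℂ) u * (ψ : G → ℂ) u⁻¹) * hinv g + hinv u
      rwa [mul_inv_eq_one.1 hcomm]
    · set K := Subgroup.normalClosure ((P : Subgroup G) : Set G) with hKdef
      have hPK : (P : Subgroup G) ≤ K := Subgroup.le_normalClosure
      have : Fintype K := Fintype.ofFinite K
      have hlt : Nat.card K ≤ n := by
        have h1 : Nat.card K ≠ Nat.card G := fun h => hK (Subgroup.eq_top_of_card_eq K h)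
        have h2 := Subgroup.card_le_card_group K
        omega
      have hcard : Nat.card ((P.subtype hPK : Sylow p K) : Subgroup K) =
          Nat.card (P : Subgroup G) := by
        rw [Sylow.coe_subtype, Nat.card_congr (Subgroup.subgroupOfEquivOfLe hPK).toEquiv]
      have hnorm : ((P.subtype hPK : Sylow p K) : Subgroup K).Normal := by
        refine ih hlt (P.subtype hPK) (hcard ▸ hP1) (fun x hx hx1 => ?_) (fun g : K => χ g)
          (Char.isCharacter_res K hχ) (fun g hg => Subtype.ext (hfaith g hg)) ?_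
        · rw [Sylow.coe_subtype, Subgroup.mem_subgroupOf] at hx
          have h := hstar x hx fun h => hx1 (Subtype.ext h)
          ext y
          rw [Subgroup.mem_centralizer_singleton_iff, Subgroup.mem_centralizer_iff, Sylow.coe_subtype]
          constructor
          · intro hy v hv
            have hy' : (y : G) ∈ Subgroup.centralizer ({(x : G)} : Set G) :=
              Subgroup.mem_centralizer_singleton_iff.2 (congrArg Subtype.val hy)
            rw [h] at hy'
            exact Subtype.ext (Subgroup.mem_centralizer_iff.1 hy' v (Subgroup.mem_subgroupOf.1 hv))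
          · intro hy
            exact (hy x (Subgroup.mem_subgroupOf.2 hx)).symm
        · rw [hcard]
          exact hdeg
      rw [Sylow.coe_subtype] at hnorm
      have hKle : K ≤ Subgroup.normalizer ((P : Subgroup G) : Set G) :=
        (Subgroup.normal_subgroupOf_iff_le_normalizer hPK).1 hnorm
      have htop := Sylow.normalizer_sup_eq_top' P hPK
      refine Subgroup.normalizer_eq_top_iff.1 ?_
      exact top_le_iff.1 (htop ▸ sup_le le_rfl hKle)

end Cfsg.Agent.BlockThms.AbelianTI
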