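import Mathlib
import Cfsg.Agent.BlockThms.AbelianTI.Interface
import Cfsg.Agent.BlockThms.HomocyclicMain

/-!
# An automizer of order three
-/

set_option autoImplicit false

namespace Cfsg.Agent.BlockThms.AbelianTI

open scoped ComplexConjugate
open Cfsg.Agent Cfsg.Agent.Blocks Cfsg.Agent.BlockThms.OrderP

universe u

/-- Three signed degrees and values at an involution. -/
theorem signs_and_square {A B C x y z a b c : ℤ} (hA : 0 < A) (hB : 0 < B) (hC : 0 < C)
    (ha : a = 1 ∨ a = -1) (hb : b = 1 ∨ b = -1) (hc : c = 1 ∨ c = -1)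
    (h1 : 1 + a * A + b * B + c * C = 0) (h2 : 1 + a * x + b * y + c * z = 0)
    (h3 : A * B * C + a * x ^ 2 * (B * C) + b * y ^ 2 * (A * C) + c * z ^ 2 * (A * B) = 0)
    (hxA : x ≠ A) :
    (if a = -1 then 1 else 0) + (if b = -1 then 1 else 0) + (if c = -1 then 1 else 0) = 2 ∧
      IsSquare (A * B * C) := by
  have hw : a * (x - A) + b * (y - B) + c * (z - C) = 0 := by linarith
  have hw2 : a * (x - A) ^ 2 * (B * C) + b * (y - B) ^ 2 * (A * C) +
      c * (z - C) ^ 2 * (A * B) = 0 := by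
    linear_combination h3 - 2 * (A * B * C) * h2 + (A * B * C) * h1
  have key : ∀ A B C u v : ℤ, 0 < A → 0 < B → 0 < C → 1 + A = B + C →
      (u + v) ^ 2 * (B * C) = A * (C * u ^ 2 + B * v ^ 2) → (u ≠ 0 ∨ v ≠ 0) →
      IsSquare (A * B * C) := by
    intro A B C u v hA hB hC hsum he huv
    by_cases hv : v = 0
    · subst hv
      have hu : u ≠ 0 := huv.resolve_right fun h => h rfl
      have h : u ^ 2 * C * (B - A) = 0 := by linear_combination he
      have hBA : B = A := by
        rcases mul_eq_zero.1 h with h' | h'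
        · exact absurd h' (mul_ne_zero (pow_ne_zero 2 hu) hC.ne')
        · linarith
      exact ⟨A, by rw [hBA, show C = 1 by linarith]; ring⟩
    · set N := (B * C - A * C) * u + B * C * v with hN
      have hN2 : N ^ 2 = A * B * C * v ^ 2 := by
        have hA' : A = B + C - 1 := by linarith
        rw [hN]
        subst hA'
        linear_combination (B * C - (B + C - 1) * C) * he
      obtain ⟨q, hq⟩ : v ∣ N := (Int.pow_dvd_pow_iff two_ne_zero).1 ⟨A * B * C, by rw [hN2]; ring⟩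
      refine ⟨q, mul_right_cancel₀ (pow_ne_zero 2 hv) ?_⟩
      rw [← hN2, hq]
      ring
  have one_neg : ∀ A B C u v : ℤ, 0 < A → 0 < B → 0 < C → A = 1 + B + C →
      (u + v) ^ 2 * (B * C) = A * (C * u ^ 2 + B * v ^ 2) → u = 0 ∧ v = 0 := by
    intro A B C u v hA hB hC hsum he
    subst hsum
    have h : C * u ^ 2 + B * v ^ 2 + (C * u - B * v) ^ 2 = 0 := by linear_combination -he
    have q1 : 0 ≤ C * u ^ 2 := by positivity
    have q2 : 0 ≤ B * v ^ 2 := by positivity
    have q3 := sq_nonneg (C * u - B * v)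
    have r1 : C * u ^ 2 = 0 := by linarith
    have r2 : B * v ^ 2 = 0 := by linarith
    exact ⟨by simpa [hC.ne'] using r1, by simpa [hB.ne'] using r2⟩
  rcases ha with rfl | rfl <;> rcases hb with rfl | rfl <;> rcases hc with rfl | rfl <;>
    norm_num
  · omega
  · exfalso
    obtain ⟨h, -⟩ := one_neg C A B (x - A) (y - B) hC hA hB (by linarith) (by
      rw [show (x - A + (y - B)) = (z - C) by linarith]
      linear_combination -hw2)
    exact hxA (by linarith)
  · exfalso
    obtain ⟨h, -⟩ := one_neg B A C (x - A) (z - C) hB hA hC (by linarith) (by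
      rw [show (x - A + (z - C)) = (y - B) by linarith]
      linear_combination -hw2)
    exact hxA (by linarith)
  · refine key A B C (y - B) (z - C) hA hB hC (by linarith) ?_ ?_
    · rw [show (y - B + (z - C)) = (x - A) by linarith]
      linear_combination hw2
    · by_contra h
      push Not at h
      exact hxA (by linarith [h.1, h.2])
  · exfalso
    obtain ⟨h1', h2'⟩ := one_neg A B C (y - B) (z - C) hA hB hC (by linarith) (by
      rw [show (y - B + (z - C)) = (x - A) by linarith]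
      linear_combination -hw2)
    exact hxA (by linarith)
  · have h := key B A C (x - A) (z - C) hB hA hC (by linarith) (by
      rw [show (x - A + (z - C)) = (y - B) by linarith]
      linear_combination hw2) (Or.inl (sub_ne_zero.2 hxA))
    rwa [mul_comm B A] at h
  · have h := key C A B (x - A) (y - B) hC hA hB (by linarith) (by
      rw [show (x - A + (y - B)) = (z - C) by linarith]
      linear_combination hw2) (Or.inl (sub_ne_zero.2 hxA))
    rwa [show C * A * B = A * B * C by ring] at h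
  · omega

/-- Character values at involutions are integers. -/
theorem exists_int_apply {G : Type u} [Group G] [Fintype G] {χ : G → ℂ}
    (hχ : Cfsg.IsCharacter G χ) {t : G} (ht : orderOf t = 2) : ∃ k : ℤ, χ t = (k : ℂ) := by
  classical
  obtain ⟨n, hn⟩ := Char.classInner_isCharacter_eq_natCast
    (Char.isCharacter_res (Subgroup.zpowers t) hχ)
    (Char.isCharacter_one (G := Subgroup.zpowers t))
  obtain ⟨m, hm⟩ := Char.IsChar.degree hχ
  simp only [Cfsg.classInner, map_one, mul_one] at hn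
  rw [inv_mul_eq_iff_eq_mul₀ (Nat.cast_ne_zero.2 Nat.card_pos.ne'), Nat.card_zpowers, ht] at hn
  have hu : (Finset.univ : Finset (Subgroup.zpowers t)) =
      {1, ⟨t, Subgroup.mem_zpowers t⟩} := by
    refine (Finset.eq_univ_of_card _ ?_).symm
    have hne : (1 : Subgroup.zpowers t) ≠ ⟨t, Subgroup.mem_zpowers t⟩ := fun h => by
      have h' : (1 : G) = t := congrArg Subtype.val h
      rw [← h', orderOf_one] at ht
      omega
    rw [Finset.card_pair hne, ← Nat.card_eq_fintype_card, Nat.card_zpowers, ht]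
  rw [hu, Finset.sum_pair (fun h => by
    have h' : (1 : G) = t := congrArg Subtype.val h
    rw [← h', orderOf_one] at ht
    omega), OneMemClass.coe_one, hm] at hn
  refine ⟨2 * n - m, ?_⟩
  push_cast at hn ⊢
  linear_combination hn

/-- An element of full normal closure is outside the kernel of a nontrivial character. -/
theorem apply_ne_degree {G : Type u} [Group G] [Fintype G] {t : G}
    (ht : ∀ K : Subgroup G, K.Normal → t ∈ K → K = ⊤) {χ : Cfsg.IrrCharacter G}
    (hχ : (χ : G → ℂ) ≠ fun _ => 1) : (χ : G → ℂ) t ≠ (χ : G → ℂ) 1 := by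
  intro h
  have hc := Char.IsIrr.isCharacter χ.2
  have hall : ∀ g, (χ : G → ℂ) g = (χ : G → ℂ) 1 := fun g => by
    rw [← Char.mem_kerSubgroup hc, ht _ inferInstance ((Char.mem_kerSubgroup hc).2 h)]
    trivial
  refine hχ (funext fun g => ?_)
  obtain ⟨m, hm⟩ := Char.IsChar.degree hc
  have h1 := Char.classInner_irr_self χ.2
  rw [hall g, hm]
  simp only [Cfsg.classInner, hall, hm, Finset.sum_const, Finset.card_univ,
    ← Nat.card_eq_fintype_card, nsmul_eq_mul, Complex.conj_natCast,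
    inv_mul_cancel_left₀ (Char.card_ne_zero (G := G))] at h1
  have h2 : m * m = 1 := by exact_mod_cast h1
  rw [Nat.eq_one_of_mul_eq_one_left h2, Nat.cast_one]

variable {G : Type u} [Group G] [Fintype G] {p : ℕ} [Fact p.Prime] {P : Sylow p G}
  (hS : Setup P 3) {M : Ideal Cfsg.AlgInt}
include hS

open scoped Classical in
theorem Setup.exists_good (h4 : 4 < Nat.card (P : Subgroup G)) {t : G} (ht : orderOf t = 2) :
    ∃ l : ↥(P : Subgroup G) →* ℂˣ, l ≠ 1 ∧ lift P (theta P l) t = 0 ∧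
      ∀ a, lift P (theta P l) (a * t * a⁻¹ * t) = 0 := by
  have hp : p.Prime := Fact.out
  set N := Subgroup.normalizer (P : Set G)
  set C' : Subgroup N := (Subgroup.centralizer (P : Set G)).subgroupOf N with hC'
  have hnorm : C'.Normal := by
    have h := MonoidHom.normal_ker (P : Subgroup G).normalizerMonoidHom
    rw [Subgroup.normalizerMonoidHom_ker] at h
    exact h
  have hidx : C'.index = 3 := hS.rel
  have hfix : ∀ c : N, c ∈ C' → ∀ y ∈ (P : Subgroup G), (c : G) * y * (c : G)⁻¹ = y := fun c hc y hy => by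
    rw [← Subgroup.mem_centralizer_iff.1 (show (c : G) ∈ Subgroup.centralizer (P : Set G) from hc) y hy,
      mul_inv_cancel_right]
  -- an element of `P` conjugate to its inverse has square one
  have hinv : ∀ y ∈ (P : Subgroup G), IsConj y y⁻¹ → y * y = 1 := by
    intro y hy hconj
    obtain ⟨c, hc⟩ := isConj_iff.1 hconj
    obtain ⟨n, hn, hnc⟩ := hS.exists_normalizer_conj hy (c := c) (by rw [hc]; exact inv_mem hy)
    rw [hc] at hnc
    have h3 := hfix (⟨n, hn⟩ ^ 3) (hidx ▸ Subgroup.pow_index_mem C' _) y hy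
    rw [Subgroup.coe_pow, pow_three] at h3
    have hnc' : n * y⁻¹ * n⁻¹ = y := by
      have := congrArg (·⁻¹) hnc
      simpa [mul_assoc] using this
    have e : y⁻¹ = y := by
      calc y⁻¹ = n * (n * (n * y * n⁻¹) * n⁻¹) * n⁻¹ := by rw [hnc, hnc', hnc]
        _ = n * (n * n) * y * (n * (n * n))⁻¹ := by group
        _ = y := h3
    exact mul_eq_one_iff_eq_inv.2 e.symm
  -- the linear character
  obtain ⟨l, hl1, hl⟩ : ∃ l : ↥(P : Subgroup G) →* ℂˣ, l ≠ 1 ∧
      ∀ s : ↥(P : Subgroup G), IsConj t (s : G) → l s = 1 := by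
    have := hS.finite_dual
    have : Fintype (↥(P : Subgroup G) →* ℂˣ) := Fintype.ofFinite _
    by_cases hex : ∃ t₀ : ↥(P : Subgroup G), IsConj t (t₀ : G)
    · obtain ⟨t₀, ht₀⟩ := hex
      obtain ⟨n, hn⟩ : ∃ n : N, n ∉ C' := by
        by_contra h
        push Not at h
        rw [show C' = ⊤ from Subgroup.ext fun n => iff_of_true (h n) trivial,
          Subgroup.index_top] at hidx
        omega
      set s₁ := conjP P n t₀ with hs₁
      set s₂ := conjP P n s₁ with hs₂
      have hprod : t₀ * s₁ * s₂ = 1 := by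
        have hz : conjP P n (t₀ * s₁ * s₂) = t₀ * s₁ * s₂ := by
          have h3 : conjP P n s₂ = t₀ := Subtype.ext (by
            have h := hfix (n ^ 3) (hidx ▸ Subgroup.pow_index_mem C' n) t₀ t₀.2
            rw [Subgroup.coe_pow, pow_three] at h
            show (n : G) * ((n : G) * ((n : G) * (t₀ : G) * (n : G)⁻¹) * (n : G)⁻¹) * (n : G)⁻¹ = t₀
            conv_rhs => rw [← h]
            group)
          rw [map_mul, map_mul, h3, ← hs₁, ← hs₂]
          exact Subtype.ext (hS.mul_comm' (mul_mem s₁.2 s₂.2) t₀.2)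
            |>.trans (mul_assoc _ _ _).symm
        by_contra hne
        refine hn ?_
        show (n : G) ∈ Subgroup.centralizer (P : Set G)
        rw [← hS.semi _ (t₀ * s₁ * s₂).2 fun h => hne (Subtype.ext h)]
        exact Subgroup.mem_inf.2 ⟨Subgroup.mem_centralizer_singleton_iff.2
          (mul_inv_eq_iff_eq_mul.1 (congrArg Subtype.val hz)), n.2⟩
      have hsq : ∀ s : ↥(P : Subgroup G), IsConj t (s : G) → s * s = 1 := fun s hs => by
        obtain ⟨c, hc⟩ := isConj_iff.1 hs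
        refine Subtype.ext ?_
        rw [Subgroup.coe_mul, OneMemClass.coe_one, ← hc,
          show c * t * c⁻¹ * (c * t * c⁻¹) = c * (t * t) * c⁻¹ by group,
          show t * t = 1 by rw [← sq, ← ht, pow_orderOf_eq_one], mul_one, mul_inv_cancel]
      have hc1 : IsConj t (s₁ : G) := ht₀.trans (isConj_iff.2 ⟨n, rfl⟩)
      have hsign : ∀ (l : ↥(P : Subgroup G) →* ℂˣ) (s : ↥(P : Subgroup G)), IsConj t (s : G) →
          l s ≠ 1 → (l s : ℂ) = -1 := by
        intro l s hs hne
        have h : (l s : ℂ) * (l s : ℂ) = 1 := by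
          rw [← Units.val_mul, ← map_mul, hsq s hs, map_one, Units.val_one]
        rcases mul_self_eq_one_iff.1 h with h' | h'
        · exact absurd (Units.ext h') hne
        · exact h'
      obtain ⟨l, k, hlk, hfk⟩ := Fintype.exists_ne_map_eq_of_card_lt
        (fun l : ↥(P : Subgroup G) →* ℂˣ => (decide (l t₀ = 1), decide (l s₁ = 1))) (by
          rw [Fintype.card_prod, Fintype.card_bool, ← Nat.card_eq_fintype_card, hS.card_dual]
          omega)
      rw [Prod.mk.injEq, decide_eq_decide, decide_eq_decide] at hfk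
      have heq : ∀ s : ↥(P : Subgroup G), IsConj t (s : G) → (l s = 1 ↔ k s = 1) → (l / k) s = 1 := by
        intro s hs h
        rw [MonoidHom.div_apply, div_eq_one]
        by_cases h' : l s = 1
        · rw [h', h.1 h']
        · exact Units.ext ((hsign l s hs h').trans (hsign k s hs fun e => h' (h.2 e)).symm)
      refine ⟨l / k, div_ne_one.2 hlk, fun s hs => ?_⟩
      obtain ⟨c, hc⟩ := isConj_iff.1 (ht₀.symm.trans hs)
      obtain ⟨m, hm, hmc⟩ := hS.exists_normalizer_conj t₀.2 (c := c) (by rw [hc]; exact s.2)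
      have hms : conjP P ⟨m, hm⟩ t₀ = s := Subtype.ext (hmc.trans hc)
      have hord : orderOf (QuotientGroup.mk n : N ⧸ C') = 3 := by
        have hdvd : orderOf (QuotientGroup.mk n : N ⧸ C') ∣ 3 := hidx ▸ orderOf_dvd_natCard _
        rcases (Nat.dvd_prime Nat.prime_three).1 hdvd with h | h
        · rw [orderOf_eq_one_iff, QuotientGroup.eq_one_iff] at h
          exact absurd h hn
        · exact h
      have htop : Subgroup.zpowers (QuotientGroup.mk n : N ⧸ C') = ⊤ :=
        Subgroup.eq_top_of_card_eq _ (by rw [Nat.card_zpowers, hord]; exact hidx.symm)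
      have hmem : (QuotientGroup.mk ⟨m, hm⟩ : N ⧸ C') ∈
          Subgroup.zpowers (QuotientGroup.mk n : N ⧸ C') := htop ▸ Subgroup.mem_top _
      rw [(isOfFinOrder_of_finite _).mem_zpowers_iff_mem_range_orderOf, hord,
        Finset.mem_image] at hmem
      obtain ⟨i, hi, him⟩ := hmem
      rw [← QuotientGroup.mk_pow, eq_comm, QuotientGroup.eq] at him
      have hi' : conjP P ⟨m, hm⟩ t₀ = conjP P (n ^ i) t₀ := by
        have h := hfix _ him t₀ t₀.2
        refine Subtype.ext ?_
        show m * (t₀ : G) * m⁻¹ = ((n ^ i : N) : G) * (t₀ : G) * ((n ^ i : N) : G)⁻¹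
        conv_lhs => rw [← h]
        simp only [Subgroup.coe_mul, Subgroup.coe_inv, Subgroup.coe_pow]
        group
      have e0 := heq t₀ ht₀ hfk.1
      have e1 := heq s₁ hc1 hfk.2
      rw [← hms, hi']
      rw [Finset.mem_range] at hi
      interval_cases i
      · rw [pow_zero, conjP_one]
        exact e0
      · rw [pow_one, ← hs₁]
        exact e1
      · rw [pow_two, conjP_mul, MonoidHom.comp_apply, ← hs₁, ← hs₂]
        have := congrArg (l / k) hprod
        rwa [map_mul, map_mul, map_one, e0, e1, one_mul, one_mul] at this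
    · obtain ⟨l, hl⟩ : ∃ l : ↥(P : Subgroup G) →* ℂˣ, l ≠ 1 :=
        Fintype.exists_ne_of_one_lt_card (by
          rw [← Nat.card_eq_fintype_card, hS.card_dual]; omega) 1
      exact ⟨l, hl, fun s hs => absurd ⟨s, hs⟩ hex⟩
  set θ := theta P l with hθ
  have hadm : Adm P θ := adm_theta P l
  have hθ0 : ∀ s : ↥(P : Subgroup G), IsConj t (s : G) → θ (s : G) = 0 ∧
      ∀ k ∈ orb P l, k s = 1 := fun s hs => by
    have hk : ∀ k ∈ orb P l, k s = 1 := fun k hk => by
      obtain ⟨n, rfl⟩ := mem_orb.1 hk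
      exact hl _ (hs.trans (isConj_iff.2 ⟨n, rfl⟩))
    refine ⟨?_, hk⟩
    rw [hθ, theta_coe]
    exact Finset.sum_eq_zero fun k hk' => by rw [hk k hk', Units.val_one, sub_self]
  refine ⟨l, hl1, ?_, fun a => ?_⟩
  · obtain ⟨d, hd⟩ := exists_conj_mem P (orderOf_pPartOf hp t)
    rw [hS.lift_apply hadm hd (isConj_iff.2 ⟨d, rfl⟩)]
    by_cases h : p ∣ orderOf t
    · rw [ht, Nat.prime_dvd_prime_iff_eq hp Nat.prime_two] at h
      subst h
      rw [pPartOf_self ⟨1, by rw [ht, pow_one]⟩] at hd ⊢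
      exact (hθ0 ⟨_, hd⟩ (isConj_iff.2 ⟨d, rfl⟩)).1
    · rw [(pPartOf_eq_one_iff hp t).2 h, mul_one, mul_inv_cancel, hadm.one]
  · set g := a * t * a⁻¹ * t with hg
    have htt : t * t = 1 := by rw [← sq, ← ht, pow_orderOf_eq_one]
    have htinv : t⁻¹ = t := inv_eq_of_mul_eq_one_right htt
    have hginv : t * g * t⁻¹ = g⁻¹ := by
      rw [hg, mul_inv_rev, mul_inv_rev, mul_inv_rev, inv_inv, htinv]
      simp [mul_assoc, htt]
    obtain ⟨k, hk⟩ := orderOf_pPartOf hp g
    have hpinv : pPartOf p g⁻¹ = (pPartOf p g)⁻¹ := by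
      have h := (parts_mul hp ((commute_pPartOf_pPrimePartOf (p := p) g).inv_inv)
        ⟨k, by rw [orderOf_inv, hk]⟩
        (by rw [orderOf_inv]; exact not_dvd_orderOf_pPrimePartOf hp g)).1
      rwa [← mul_inv_rev, ← (commute_pPartOf_pPrimePartOf (p := p) g).eq,
        pPartOf_mul_pPrimePartOf hp] at h
    obtain ⟨d, hd⟩ := exists_conj_mem P ⟨k, hk⟩
    set y := d * pPartOf p g * d⁻¹ with hy
    rw [hS.lift_apply hadm hd (isConj_iff.2 ⟨d, rfl⟩)]
    by_cases hy1 : y = 1
    · rw [hy1, hadm.one]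
    have hxinv : t * pPartOf p g * t⁻¹ = (pPartOf p g)⁻¹ := by
      rw [← pPartOf_conj (p := p), hginv, hpinv]
    have hyy : y * y = 1 := hinv y hd (isConj_iff.2 ⟨d * t * d⁻¹, by
      calc d * t * d⁻¹ * y * (d * t * d⁻¹)⁻¹ = d * (t * pPartOf p g * t⁻¹) * d⁻¹ := by
            rw [hy]; group
        _ = y⁻¹ := by rw [hxinv, hy]; group⟩)
    have hp2 : p = 2 := by
      have h1 : orderOf y ∣ 2 := orderOf_dvd_of_pow_eq_one (by rw [sq]; exact hyy)
      obtain ⟨j, hj⟩ := exists_orderOf_pow (P := P) hd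
      rcases (Nat.dvd_prime Nat.prime_two).1 h1 with h | h
      · exact absurd (orderOf_eq_one_iff.1 h) hy1
      · rw [h] at hj
        exact ((Nat.prime_dvd_prime_iff_eq Nat.prime_two hp).1
          (Nat.prime_two.dvd_of_dvd_pow (n := j) (by rw [← hj]))).symm
    subst hp2
    set D := Subgroup.centralizer ({y} : Set G) with hD
    have hle : (P : Subgroup G) ≤ D := fun v hv =>
      Subgroup.mem_centralizer_singleton_iff.2 (hS.mul_comm' hv hd)
    obtain ⟨hKcard, hKmem⟩ := hS.core_centralizer hd hy1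
    set K := Cfsg.pPrimeCore 2 (D : Subgroup G) with hK
    have hKn : K.Normal := by rw [hK]; infer_instance
    have hdisj : Disjoint K ((P : Subgroup G).subgroupOf D) := by
      rw [Subgroup.disjoint_def]
      intro z hzK hzP
      obtain ⟨j, hj⟩ := exists_orderOf_pow (P := P) (Subgroup.mem_subgroupOf.1 hzP)
      have h := (hKmem z).1 hzK
      rw [← Subgroup.orderOf_coe, hj] at h
      rcases Nat.eq_zero_or_pos j with hj0 | hj0
      · subst hj0
        rw [pow_zero, orderOf_eq_one_iff] at hj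
        exact Subtype.ext hj
      · exact absurd (dvd_pow_self 2 hj0.ne') h
    have hcompl : K.IsComplement' ((P : Subgroup G).subgroupOf D) :=
      Subgroup.isComplement'_of_card_mul_and_disjoint (by
        rw [Nat.card_congr (Subgroup.subgroupOfEquivOfLe hle).toEquiv]
        exact hKcard) hdisj
    have hrep : ∀ z : D, ∃ w : ↥(P : Subgroup G),
        (QuotientGroup.mk' K) z = (QuotientGroup.mk' K) ⟨w, hle w.2⟩ := by
      intro z
      have hz : z ∈ K ⊔ (P : Subgroup G).subgroupOf D := hcompl.sup_eq_top ▸ Subgroup.mem_top z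
      obtain ⟨k', hk', w, hw, rfl⟩ := Subgroup.mem_sup_of_normal_left.1 hz
      refine ⟨⟨w, Subgroup.mem_subgroupOf.1 hw⟩, ?_⟩
      rw [map_mul, (QuotientGroup.eq_one_iff k').2 hk' |> fun h => (show (QuotientGroup.mk' K) k' = 1 from h),
        one_mul]
    have hcomm : ∀ u v : D ⧸ K, u * v = v * u := by
      intro u v
      obtain ⟨u, rfl⟩ := QuotientGroup.mk'_surjective K u
      obtain ⟨v, rfl⟩ := QuotientGroup.mk'_surjective K v
      obtain ⟨wu, hwu⟩ := hrep u
      obtain ⟨wv, hwv⟩ := hrep v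
      rw [hwu, hwv, ← map_mul, ← map_mul]
      exact congrArg _ (Subtype.ext (hS.mul_comm' wu.2 wv.2))
    -- an involution of `D` conjugate to `t` is congruent to a conjugate of `t` in `P`
    have hinto : ∀ v : D, IsConj t (v : G) → ∃ s : ↥(P : Subgroup G), IsConj t (s : G) ∧
        (QuotientGroup.mk' K) v = (QuotientGroup.mk' K) ⟨s, hle s.2⟩ := by
      intro v hv
      obtain ⟨c₀, hc₀⟩ := isConj_iff.1 hv
      have hvo : ∃ j, orderOf v = 2 ^ j := ⟨1, by
        rw [← Subgroup.orderOf_coe, ← hc₀,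
          (orderOf_eq_of_pow_and_pow_div_prime (n := 2) two_pos ?_ ?_)]
        · rfl
        · rw [conj_pow, ← ht, pow_orderOf_eq_one, mul_one, mul_inv_cancel]
        · intro q hq hq2
          rw [(Nat.prime_dvd_prime_iff_eq hq Nat.prime_two).1 hq2, Nat.div_self two_pos, pow_one,
            Ne, conj_eq_one_iff]
          intro h
          rw [h, orderOf_one] at ht
          omega⟩
      obtain ⟨c, hc⟩ := exists_conj_mem (P.subtype hle) hvo
      rw [Sylow.coe_subtype, Subgroup.mem_subgroupOf] at hc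
      refine ⟨⟨_, hc⟩, hv.trans (isConj_iff.2 ⟨(c : G), rfl⟩), ?_⟩
      show _ = (QuotientGroup.mk' K) (c * v * c⁻¹)
      rw [map_mul, map_mul, map_inv, hcomm ((QuotientGroup.mk' K) c), mul_inv_cancel_right]
    have hdt : d * t * d⁻¹ ∈ D := Subgroup.mem_centralizer_singleton_iff.2 (by
      have : d * t * d⁻¹ * y * (d * t * d⁻¹)⁻¹ = y := by
        calc d * t * d⁻¹ * y * (d * t * d⁻¹)⁻¹ = d * (t * pPartOf 2 g * t⁻¹) * d⁻¹ := by
              rw [hy]; group
          _ = y⁻¹ := by rw [hxinv, hy]; group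
          _ = y := (eq_inv_of_mul_eq_one_left hyy).symm
      exact mul_inv_eq_iff_eq_mul.1 this)
    have hdg : d * g * d⁻¹ ∈ D := Subgroup.mem_centralizer_singleton_iff.2 (by
      have hc : Commute g (pPartOf 2 g) := by
        have h := (Commute.refl (pPartOf 2 g)).mul_left
          (commute_pPartOf_pPrimePartOf (p := 2) g).symm
        rwa [pPartOf_mul_pPrimePartOf hp] at h
      rw [hy, show d * g * d⁻¹ * (d * pPartOf 2 g * d⁻¹) = d * (g * pPartOf 2 g) * d⁻¹ by group,
        hc.eq]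
      group)
    have hdu : d * (a * t * a⁻¹) * d⁻¹ ∈ D := by
      have h := mul_mem hdg (inv_mem hdt)
      rwa [show d * g * d⁻¹ * (d * t * d⁻¹)⁻¹ = d * (a * t * a⁻¹) * d⁻¹ by rw [hg]; group] at h
    obtain ⟨s, hs, hsq⟩ := hinto ⟨_, hdt⟩ (isConj_iff.2 ⟨d, rfl⟩)
    obtain ⟨s', hs', hsq'⟩ := hinto ⟨_, hdu⟩ (isConj_iff.2 ⟨d * a, by group⟩)
    have hyD : (QuotientGroup.mk' K) ⟨_, hdg⟩ = (QuotientGroup.mk' K) ⟨y, hle hd⟩ := by
      have hr : d * pPrimePartOf 2 g * d⁻¹ ∈ D := by
        have h := mul_mem (inv_mem (hle hd)) hdg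
        rwa [show y⁻¹ * (d * g * d⁻¹) = d * ((pPartOf 2 g)⁻¹ * g) * d⁻¹ by rw [hy]; group,
          show (pPartOf 2 g)⁻¹ * g = pPrimePartOf 2 g by
            rw [inv_mul_eq_iff_eq_mul, pPartOf_mul_pPrimePartOf hp]] at h
      have hrK : (⟨_, hr⟩ : D) ∈ K := (hKmem _).2 (by
        rw [← Subgroup.orderOf_coe,
          show orderOf (d * pPrimePartOf 2 g * d⁻¹) = orderOf (pPrimePartOf 2 g) from
            (MulAut.conj d).orderOf_eq _]
        exact not_dvd_orderOf_pPrimePartOf hp g)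
      have e1 : (⟨_, hdg⟩ : D) = ⟨y, hle hd⟩ * ⟨_, hr⟩ := Subtype.ext (by
        show d * g * d⁻¹ = d * pPartOf 2 g * d⁻¹ * (d * pPrimePartOf 2 g * d⁻¹)
        conv_lhs => rw [← pPartOf_mul_pPrimePartOf hp g]
        group)
      rw [e1, map_mul, show (QuotientGroup.mk' K) ⟨_, hr⟩ = 1 from (QuotientGroup.eq_one_iff _).2 hrK,
        mul_one]
    have hprod : (QuotientGroup.mk' K) ⟨(s' * s : ↥(P : Subgroup G)), hle (s' * s).2⟩ =
        (QuotientGroup.mk' K) ⟨y, hle hd⟩ := by
      rw [show (⟨((s' * s : ↥(P : Subgroup G)) : G), hle (s' * s).2⟩ : D) =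
        ⟨s', hle s'.2⟩ * ⟨s, hle s.2⟩ from rfl, map_mul, ← hsq, ← hsq', ← hyD, ← map_mul]
      refine congrArg _ (Subtype.ext ?_)
      show d * (a * t * a⁻¹) * d⁻¹ * (d * t * d⁻¹) = d * g * d⁻¹
      rw [hg]
      group
    have hy_eq : s' * s = ⟨y, hd⟩ := by
      have h := (QuotientGroup.eq).1 hprod
      have h1 := Subgroup.disjoint_def.1 hdisj h (Subgroup.mem_subgroupOf.2 (by
        simp only [Subgroup.coe_mul, Subgroup.coe_inv]
        exact mul_mem (inv_mem (mul_mem s'.2 s.2)) hd))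
      exact Subtype.ext (inv_mul_eq_one.1 (congrArg Subtype.val h1))
    show θ ((⟨y, hd⟩ : ↥(P : Subgroup G)) : G) = 0
    rw [← hy_eq, hθ, theta_coe]
    exact Finset.sum_eq_zero fun k hk => by
      rw [map_mul, (hθ0 s hs).2 k hk, (hθ0 s' hs').2 k hk, one_mul, Units.val_one, sub_self]

theorem Setup.sum_dual {x : ↥(P : Subgroup G)} (hx : x ≠ 1)
    [Fintype (↥(P : Subgroup G) →* ℂˣ)] :
    ∑ l : ↥(P : Subgroup G) →* ℂˣ, (l x : ℂ) = 0 := by
  let : CommGroup (P : Subgroup G) :=
    { (inferInstance : Group (P : Subgroup G)) with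
      mul_comm := fun a b => Subtype.ext (hS.mul_comm' a.2 b.2) }
  obtain ⟨φ, hφ⟩ :=
    CommGroup.exists_apply_ne_one_of_hasEnoughRootsOfUnity (P : Subgroup G) ℂ hx
  have key : (φ x : ℂ) * ∑ l : ↥(P : Subgroup G) →* ℂˣ, (l x : ℂ) =
      ∑ l : ↥(P : Subgroup G) →* ℂˣ, (l x : ℂ) := by
    rw [Finset.mul_sum]
    exact Fintype.sum_equiv (Equiv.mulLeft φ) _ _ fun l => by simp
  rcases eq_or_ne (∑ l : ↥(P : Subgroup G) →* ℂˣ, (l x : ℂ)) 0 with h0 | h0
  · exact h0
  · exact absurd (Units.ext ((mul_eq_right₀ h0).1 key)) hφ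

/-- For an automizer of order three one may take `d = 0`. -/
theorem Setup.exceptional_three (hM : Cfsg.IsPModular p M)
    (h4 : 4 < Nat.card (P : Subgroup G)) :
    ∃ X Y a δ ζ, Exceptional M P 3 X Y a 0 δ ζ ∧ X.card = 3 ∧ ∀ χ ∈ X, a χ = 1 ∨ a χ = -1 := by
  classical
  obtain ⟨X, Y, a, d, δ, ζ, h⟩ := hS.exceptional hM (by omega)
  have hfinish : ∀ (a' : Cfsg.IrrCharacter G → ℤ) (X' : Finset (Cfsg.IrrCharacter G)),
      triv G ∈ X' → a' (triv G) = 1 → (∀ χ ∈ X', a' χ ≠ 0) → ∑ χ ∈ X', a' χ ^ 2 = 3 →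
      X'.card = 3 ∧ ∀ χ ∈ X', a' χ = 1 ∨ a' χ = -1 := by
    intro a' X' ht' hat hne hsum
    have hsq : ∀ χ ∈ X', a' χ ^ 2 = 1 := by
      intro χ hχ
      have h1 : 0 < a' χ ^ 2 := sq_pos_of_ne_zero (hne χ hχ)
      have h2 := (Finset.single_le_sum (f := fun χ => a' χ ^ 2) (fun _ _ => sq_nonneg _) hχ).trans
        hsum.le
      have h3 : a' χ < 2 := by nlinarith
      have h5 : -2 < a' χ := by nlinarith
      rcases (show a' χ = 1 ∨ a' χ = -1 ∨ a' χ = 0 by omega) with e | e | e
      · rw [e]; norm_num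
      · rw [e]; norm_num
      · exact absurd e (hne χ hχ)
    refine ⟨?_, fun χ hχ => sq_eq_one_iff.1 (hsq χ hχ)⟩
    rw [Finset.sum_congr rfl hsq, Finset.sum_const, nsmul_eq_mul, mul_one] at hsum
    exact_mod_cast hsum
  by_cases hd : d = 0
  · subst hd
    have hn := h.norm
    have hs : ∑ χ ∈ X, a χ ^ 2 = 3 := by
      rcases h.sign with h' | h' <;> subst h' <;> push_cast at hn <;> linarith
    exact ⟨X, Y, a, δ, ζ, h, hfinish a X h.triv_mem h.a_triv h.a_ne hs⟩
  have hmul := h.card_mul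
  have hn := h.norm
  push_cast at hn
  have hr : 2 ≤ Y.card := by omega
  have hrz : (2 : ℤ) ≤ (Y.card : ℤ) := by exact_mod_cast hr
  have hX1 : 1 ≤ ∑ χ ∈ X, a χ ^ 2 := by
    refine le_trans ?_ (Finset.single_le_sum (f := fun χ => a χ ^ 2) (fun _ _ => sq_nonneg _) h.triv_mem)
    rw [h.a_triv]; norm_num
  have hd2 : 0 < d ^ 2 := sq_pos_of_ne_zero hd
  have hd1 : d = 1 ∨ d = -1 := by
    have : d < 2 := by nlinarith [sq_nonneg (d - δ)]
    have : -2 < d := by nlinarith [sq_nonneg (d - δ)]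
    omega
  have hdδ : d = δ := by
    rcases hd1 with e | e <;> rcases h.sign with e' | e' <;> rw [e, e'] at hn ⊢ <;>
      first | rfl | (exfalso; linarith)
  subst hdδ
  have hdd : d ^ 2 = 1 := by rcases hd1 with e | e <;> rw [e] <;> norm_num
  rw [sub_self, hdd] at hn
  have hp : p.Prime := Fact.out
  have hr2 : Y.card = 2 := by
    by_contra hne
    have : Y.card = 3 ∨ Y.card = 4 := by omega
    rcases this with e | e
    · obtain ⟨j, hj⟩ := IsPGroup.iff_card.1 P.isPGroup'
      rw [← hmul, e] at hj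
      have e2 := (Nat.prime_dvd_prime_iff_eq Nat.prime_two hp).1
        (Nat.prime_two.dvd_of_dvd_pow (hj ▸ (by norm_num : 2 ∣ 3 * 3 + 1)))
      have e5 := (Nat.prime_dvd_prime_iff_eq (by norm_num : Nat.Prime 5) hp).1
        ((by norm_num : Nat.Prime 5).dvd_of_dvd_pow (hj ▸ (by norm_num : 5 ∣ 3 * 3 + 1)))
      omega
    · rw [e] at hn
      push_cast at hn
      have hsum : ∑ χ ∈ X, a χ ^ 2 = 1 := by linarith
      have hX : X = {triv G} := by
        refine Finset.eq_singleton_iff_unique_mem.2 ⟨h.triv_mem, fun χ hχ => ?_⟩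
        by_contra hne'
        have hpair : ∑ χ ∈ ({χ, triv G} : Finset _), a χ ^ 2 ≤ ∑ χ ∈ X, a χ ^ 2 :=
          Finset.sum_le_sum_of_subset_of_nonneg (by
            intro z hz
            rcases Finset.mem_insert.1 hz with rfl | hz
            · exact hχ
            · rw [Finset.mem_singleton.1 hz]; exact h.triv_mem) fun _ _ _ => sq_nonneg _
        rw [Finset.sum_pair hne', h.a_triv] at hpair
        have := sq_pos_of_ne_zero (h.a_ne χ hχ)
        omega
      obtain ⟨η, hη⟩ : ∃ η, η ∈ Y := Finset.card_pos.1 (by omega)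
      have hrel := h.relation η hη 1 (by rw [orderOf_one, Nat.dvd_one]; exact hp.ne_one)
      rw [hX, Finset.sum_singleton, h.a_triv, e,
        ← charDegree_cast (Char.IsIrr.isCharacter η.2)] at hrel
      simp only [triv, Int.cast_one, mul_one] at hrel
      have hz : ((4 : ℤ) * d - d) * (Cfsg.charDegree (η : G → ℂ) : ℤ) + 1 = 0 := by
        exact_mod_cast hrel
      rcases hd1 with e' | e' <;> rw [e'] at hz <;> omega
  obtain ⟨η₁, η₂, h12, hY⟩ := Finset.card_eq_two.1 hr2
  let oth : Cfsg.IrrCharacter G → Cfsg.IrrCharacter G := fun η => if η = η₁ then η₂ else η₁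
  have hmemY : ∀ η, η ∈ Y ↔ η = η₁ ∨ η = η₂ := fun η => by rw [hY]; simp
  have hothY : ∀ η ∈ Y, oth η ∈ Y ∧ oth η ≠ η ∧ oth (oth η) = η := by
    intro η hη
    rcases (hmemY η).1 hη with rfl | rfl <;> simp [oth, h12, h12.symm, hY]
  have hothsum : ∀ η ∈ Y, ∀ f : Cfsg.IrrCharacter G → ℂ, ∑ ξ ∈ Y, f ξ = f η + f (oth η) := by
    intro η hη f
    rw [hY, Finset.sum_pair h12]
    rcases (hmemY η).1 hη with rfl | rfl
    · simp [oth]
    · simp [oth, h12.symm, add_comm]
  rw [hr2] at hn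
  push_cast at hn
  have h' : Exceptional M P 3 X Y a 0 (-d) fun l => oth (ζ l) := by
    refine
      { h with
        sign := by rcases hd1 with e | e <;> simp [e]
        zeta_mem := fun l hl => (hothY _ (h.zeta_mem l hl)).1
        zeta_surj := fun η hη => ?_
        zeta_eq := fun l k hl hk => ?_
        valY := fun l hl g x hx hg => ?_
        norm := ?_
        relation := fun η hη g hg => ?_
        expansion := fun l hl f => ?_ }
    · obtain ⟨l, hl, he⟩ := h.zeta_surj _ (hothY η hη).1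
      exact ⟨l, hl, by rw [he]; exact (hothY η hη).2.2⟩
    · rw [← h.zeta_eq l k hl hk]
      refine ⟨fun e => ?_, fun e => by simp only [e]⟩
      rw [← (hothY _ (h.zeta_mem l hl)).2.2, ← (hothY _ (h.zeta_mem k hk)).2.2, e]
    · obtain ⟨k, hk, hke⟩ := h.zeta_surj _ (hothY _ (h.zeta_mem l hl)).1
      show (oth (ζ l) : G → ℂ) g = _
      rw [← hke, h.valY k hk g x hx hg]
      have := hS.finite_dual
      have : Fintype (↥(P : Subgroup G) →* ℂˣ) := Fintype.ofFinite _
      have hdis : Disjoint (orb P l) (orb P k) := Finset.disjoint_left.2 fun w h1 h2 => by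
        have e := (h.zeta_eq l k hl hk).2 ((orb_eq_of_mem h1).symm.trans (orb_eq_of_mem h2))
        exact (hothY _ (h.zeta_mem l hl)).2.1 (hke.symm.trans e.symm)
      have h1n : (1 : ↥(P : Subgroup G) →* ℂˣ) ∉ orb P l ∪ orb P k := by
        simp [one_notMem_orb hl, one_notMem_orb hk]
      have huniv : insert 1 (orb P l ∪ orb P k) = Finset.univ := Finset.eq_univ_of_card _ (by
        rw [Finset.card_insert_of_notMem h1n, Finset.card_union_of_disjoint hdis,
          hS.card_orb hl, hS.card_orb hk, ← Nat.card_eq_fintype_card, hS.card_dual, ← hmul, hr2])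
      have hs := hS.sum_dual hx
      rw [← huniv, Finset.sum_insert h1n, Finset.sum_union hdis, MonoidHom.one_apply,
        Units.val_one] at hs
      push_cast
      linear_combination (d : ℂ) * hs
    · rw [hr2]
      push_cast
      linarith
    · have h0 := h.relation η hη g hg
      rw [hr2] at h0 ⊢
      push_cast at h0 ⊢
      linear_combination h0
    · rw [h.expansion l hl f, hothsum _ (h.zeta_mem l hl) f]
      push_cast
      ring
  refine ⟨X, Y, a, -d, _, h', hfinish a X h.triv_mem h.a_triv h.a_ne ?_⟩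
  linarith

/-- Signs and degrees in the presence of an involution of full normal closure. -/
theorem Setup.signs_square (h4 : 4 < Nat.card (P : Subgroup G))
    {X Y : Finset (Cfsg.IrrCharacter G)} {a : Cfsg.IrrCharacter G → ℤ} {δ : ℤ}
    {ζ : (↥(P : Subgroup G) →* ℂˣ) → Cfsg.IrrCharacter G} (h : Exceptional M P 3 X Y a 0 δ ζ)
    (hX3 : X.card = 3) (ha : ∀ χ ∈ X, a χ = 1 ∨ a χ = -1) {t : G} (ht : orderOf t = 2)
    (htn : ∀ K : Subgroup G, K.Normal → t ∈ K → K = ⊤) :
    ∃ χ₂ χ₃, χ₂ ≠ χ₃ ∧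
      {χ : Cfsg.IrrCharacter G | χ ∈ X ∧ (χ : G → ℂ) ≠ fun _ => 1} = {χ₂, χ₃} ∧
      (if a χ₂ = -1 then 1 else 0) + (if a χ₃ = -1 then 1 else 0) + (if δ = 1 then 1 else 0) = 2 ∧
      ∀ η ∈ Y, IsSquare (Cfsg.charDegree (η : G → ℂ) *
        (Cfsg.charDegree (χ₂ : G → ℂ) * Cfsg.charDegree (χ₃ : G → ℂ))) := by
  classical
  have hp : p.Prime := Fact.out
  obtain ⟨χ₂, χ₃, h23, hX⟩ := Finset.card_eq_two.1 (show (X.erase (triv G)).card = 2 by
    rw [Finset.card_erase_of_mem h.triv_mem, hX3])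
  have hmemX : ∀ χ, χ ∈ X ↔ χ = triv G ∨ χ = χ₂ ∨ χ = χ₃ := by
    intro χ
    rw [← Finset.insert_erase h.triv_mem, hX]
    simp
  have h2 : χ₂ ∈ X.erase (triv G) := by rw [hX]; simp
  have h3 : χ₃ ∈ X.erase (triv G) := by rw [hX]; simp
  have hne1 : ∀ χ : Cfsg.IrrCharacter G, (χ : G → ℂ) ≠ (fun _ => 1) ↔ χ ≠ triv G := fun χ =>
    not_congr ⟨fun e => Subtype.ext e, fun e => by rw [e]; rfl⟩
  obtain ⟨l, hl, hFt, hFp⟩ := hS.exists_good h4 ht
  set F := lift P (theta P l) with hF
  have hFc : Cfsg.IsClassFunction G F := hS.lift_class (adm_theta P l)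
  have hexp : ∀ f : Cfsg.IrrCharacter G → ℂ,
      ∑ χ : Cfsg.IrrCharacter G, Cfsg.classInner F (χ : G → ℂ) * f χ =
        f (triv G) + ((a χ₂ : ℂ) * f χ₂ + (a χ₃ : ℂ) * f χ₃) - (δ : ℂ) * f (ζ l) := by
    intro f
    rw [h.expansion l hl f, ← Finset.add_sum_erase _ _ h.triv_mem, hX, Finset.sum_pair h23,
      h.a_triv]
    push_cast
    ring
  set η := ζ l with hη
  have hF1 : F 1 = 0 := hS.lift_regular (adm_theta P l) (by
    rw [orderOf_one, Nat.dvd_one]; exact hp.ne_one)
  have e1 := (hexp fun χ => (χ : G → ℂ) 1).symm.trans (Invol.apply_eq_sum hFc 1)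
  have et := (hexp fun χ => (χ : G → ℂ) t).symm.trans (Invol.apply_eq_sum hFc t)
  have eq' := (hexp fun χ => (χ : G → ℂ) t ^ 2 / (χ : G → ℂ) 1).symm.trans
    (HomocyclicBlock.sum_mult_sq hFc hFp)
  obtain ⟨x, hx⟩ := exists_int_apply (Char.IsIrr.isCharacter χ₂.2) ht
  obtain ⟨y, hy⟩ := exists_int_apply (Char.IsIrr.isCharacter χ₃.2) ht
  obtain ⟨z, hz⟩ := exists_int_apply (Char.IsIrr.isCharacter η.2) ht
  set A := Cfsg.charDegree (χ₂ : G → ℂ) with hA
  set B := Cfsg.charDegree (χ₃ : G → ℂ) with hB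
  set C := Cfsg.charDegree (η : G → ℂ) with hC
  have hA0 : 0 < A := charDegree_pos χ₂.2
  have hB0 : 0 < B := charDegree_pos χ₃.2
  have hC0 : 0 < C := charDegree_pos η.2
  rw [hF1, ← charDegree_cast (Char.IsIrr.isCharacter χ₂.2),
    ← charDegree_cast (Char.IsIrr.isCharacter χ₃.2),
    ← charDegree_cast (Char.IsIrr.isCharacter η.2)] at e1
  rw [hFt, hx, hy, hz] at et
  rw [hx, hy, hz, ← charDegree_cast (Char.IsIrr.isCharacter χ₂.2),
    ← charDegree_cast (Char.IsIrr.isCharacter χ₃.2),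
    ← charDegree_cast (Char.IsIrr.isCharacter η.2)] at eq'
  rw [← hA, ← hB, ← hC] at e1 eq'
  simp only [triv, one_pow, div_one] at e1 et eq'
  have q1 : 1 + a χ₂ * (A : ℤ) + a χ₃ * (B : ℤ) + -δ * (C : ℤ) = 0 := by
    have : ((1 + a χ₂ * (A : ℤ) + a χ₃ * (B : ℤ) + -δ * (C : ℤ) : ℤ) : ℂ) = 0 := by
      push_cast; linear_combination e1
    exact_mod_cast this
  have q2 : 1 + a χ₂ * x + a χ₃ * y + -δ * z = 0 := by
    have : ((1 + a χ₂ * x + a χ₃ * y + -δ * z : ℤ) : ℂ) = 0 := by
      push_cast; linear_combination et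
    exact_mod_cast this
  have q3 : (A : ℤ) * B * C + a χ₂ * x ^ 2 * ((B : ℤ) * C) + a χ₃ * y ^ 2 * ((A : ℤ) * C) +
      -δ * z ^ 2 * ((A : ℤ) * B) = 0 := by
    have nA : (A : ℂ) ≠ 0 := Nat.cast_ne_zero.2 hA0.ne'
    have nB : (B : ℂ) ≠ 0 := Nat.cast_ne_zero.2 hB0.ne'
    have nC : (C : ℂ) ≠ 0 := Nat.cast_ne_zero.2 hC0.ne'
    field_simp at eq'
    have : (((A : ℤ) * B * C + a χ₂ * x ^ 2 * ((B : ℤ) * C) + a χ₃ * y ^ 2 * ((A : ℤ) * C) +
        -δ * z ^ 2 * ((A : ℤ) * B) : ℤ) : ℂ) = 0 := by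
      push_cast; linear_combination eq'
    exact_mod_cast this
  have hxA : x ≠ (A : ℤ) := fun e => by
    refine apply_ne_degree htn ((hne1 χ₂).2 (Finset.ne_of_mem_erase h2)) ?_
    rw [hx, e, ← charDegree_cast (Char.IsIrr.isCharacter χ₂.2), ← hA]
    simp
  obtain ⟨hcount, hsquare⟩ := signs_and_square (by omega) (by omega) (by omega)
    (ha _ (Finset.mem_of_mem_erase h2)) (ha _ (Finset.mem_of_mem_erase h3))
    (by rcases h.sign with e | e <;> simp [e]) q1 q2 q3 hxA
  refine ⟨χ₂, χ₃, h23, ?_, ?_, fun η' hη' => ?_⟩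
  · ext χ
    simp only [Set.mem_setOf_eq, Set.mem_insert_iff, Set.mem_singleton_iff, hne1, hmemX]
    constructor
    · rintro ⟨h1 | h1, h2'⟩
      · exact absurd h1 h2'
      · exact h1
    · rintro (rfl | rfl)
      · exact ⟨Or.inr (Or.inl rfl), Finset.ne_of_mem_erase h2⟩
      · exact ⟨Or.inr (Or.inr rfl), Finset.ne_of_mem_erase h3⟩
  · simp only [neg_inj] at hcount
    exact hcount
  · have hdeg : Cfsg.charDegree (η' : G → ℂ) = C := charDegree_eq (by
      rw [h.regular η' hη' η (h.zeta_mem l hl) 1 (by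
        rw [orderOf_one, Nat.dvd_one]; exact hp.ne_one),
        ← charDegree_cast (Char.IsIrr.isCharacter η.2)])
    rw [hdeg, ← hA, ← hB]
    obtain ⟨q, hq⟩ := hsquare
    refine ⟨q.natAbs, ?_⟩
    rw [← Int.natAbs_mul, ← hq, Int.natAbs_mul, Int.natAbs_mul, Int.natAbs_natCast,
      Int.natAbs_natCast, Int.natAbs_natCast]
    ring

end Cfsg.Agent.BlockThms.AbelianTI
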